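import Cfsg.Agent.H98.OrthMax.Halves
import Cfsg.Agent.Orthogonal.StdForms

/-!
Maximality of nondegenerate subspace stabilisers in the vocabulary of the geometric classes.
-/

set_option autoImplicit false

namespace Cfsg.Agent.H98.OrthMax

open QuadraticMap Module Cfsg.Agent.Orthogonal

variable {F : Type*} [Field F] [Fintype F] {ι : Type} [Fintype ι] [DecidableEq ι] {Q : QuadraticForm F (ι → F)}

omit [Fintype F] [DecidableEq ι] [Fintype ι] in
theorem nondeg_restr_of_nondegenerateOn {W : Submodule F (ι → F)}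
    (hW : Cfsg.Geo.IsNondegenerateOn (QuadraticMap.polar ⇑Q) W) : Nondeg (restr Q W) := fun x hx => by
  by_contra hne
  obtain ⟨y, hy, hy'⟩ := (hW x x.2 (fun h => hne (Subtype.ext h))).2
  exact hy' ((polar_restr W x ⟨y, hy⟩).symm.trans (hx ⟨y, hy⟩))

omit [Fintype F] [DecidableEq ι] in
theorem exists_not_mem_of_lt {U W : Submodule F (ι → F)} (h : finrank F W < finrank F U) (g : O Q) :
    ∃ v ∈ U, (g : (ι → F) ≃ₗ[F] (ι → F)) v ∉ W := by
  by_contra hc
  push Not at hc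
  have := Submodule.finrank_mono (show U.map ((g : (ι → F) ≃ₗ[F] (ι → F)) : (ι → F) →ₗ[F] (ι → F)) ≤ W by
    rintro _ ⟨v, hv, rfl⟩; exact hc v hv)
  rw [LinearEquiv.finrank_map_eq] at this
  omega

omit [Fintype F] [DecidableEq ι] in
/-- The hyperbolic planes are of plus type. -/
theorem isPlusTypeOn_of_singular {T : Submodule F (ι → F)} (h2 : finrank F T = 2) {x : ι → F} (hx : x ∈ T)
    (hx0 : x ≠ 0) (hQx : Q x = 0) : Cfsg.Geo.IsPlusTypeOn ⇑Q T :=
  ⟨Submodule.span F {x}, by simpa using hx, fun w hw => by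
    obtain ⟨c, rfl⟩ := Submodule.mem_span_singleton.1 hw
    rw [qmap_smul, hQx, mul_zero], by rw [finrank_span_singleton hx0, h2]⟩

theorem isMaximalIn_nondeg' (hQ : Nondeg Q) (hn : 13 ≤ finrank F (ι → F)) {W : Submodule F (ι → F)}
    (hW0 : W ≠ ⊥) (hW1 : W ≠ ⊤) (hW : Nondeg (restr Q W))
    (hhalf : 2 * finrank F W = finrank F (ι → F) → ∀ g : O Q, ∃ v ∈ perp Q W, (g : (ι → F) ≃ₗ[F] (ι → F)) v ∉ W)
    (hex : ∀ T, T = W ∨ T = perp Q W → finrank F T = 2 → (∃ x ∈ T, x ≠ 0 ∧ Q x = 0) → 4 ≤ Fintype.card F) :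
    Cfsg.Geo.IsMaximalIn (Cfsg.Geo.omegaGL ⇑Q) (Cfsg.Geo.subspaceStabilizer W ⊓ Cfsg.Geo.omegaGL ⇑Q) := by
  have hr := hQ.finrank_add_perp W
  rcases Nat.lt_or_ge (finrank F (perp Q W)) (finrank F W) with h | h
  · rw [← stabilizer_inf_omega_perp hQ W]
    refine isMaximalIn_nondeg hQ (by omega) (fun h0 => hW1 ?_) (hQ.nondeg_perp hW) (by rw [hQ.perp_perp]; omega)
      (fun g => ?_) (hex _ (Or.inr rfl))
    · rw [← hQ.perp_perp W, h0, perp_bot]
    · rw [hQ.perp_perp]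
      exact exists_not_mem_of_lt h g
  · refine isMaximalIn_nondeg hQ (by omega) hW0 hW (by omega) (fun g => ?_) (hex _ (Or.inl rfl))
    rcases h.lt_or_eq with hlt | heq
    · exact exists_not_mem_of_lt hlt g
    · exact hhalf (by omega) g

end Cfsg.Agent.H98.OrthMax
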