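import Cfsg.Agent.H98.OrthMax.Polar

/-!
Overgroups of the stabiliser of a polarisation contain Ω.
-/

set_option autoImplicit false

namespace Cfsg.Agent.H98.OrthMax

open QuadraticMap Module Cfsg.Agent.Orthogonal

variable {F V : Type*} [Field F] [Finite F] [AddCommGroup V] [Module F V] [FiniteDimensional F V]
  {Q : QuadraticForm F V} {X : Subgroup (O Q)} {A B : Submodule F V}

omit [Finite F] in
/-- An element mapping both parts of a polarisation into themselves or into each other permutes them. -/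
theorem Polarised.map_eq (h : Polarised Q A B) (hd : finrank F A = finrank F B) (g : O Q)
    (hA : ∀ v ∈ A, (g : V ≃ₗ[F] V) v ∈ B) : A.map ((g : V ≃ₗ[F] V) : V →ₗ[F] V) = B :=
  have := h
  Submodule.eq_of_le_of_finrank_eq (by rintro _ ⟨v, hv, rfl⟩; exact hA v hv)
    (by rw [LinearEquiv.finrank_map_eq, hd])

omit [Finite F] [FiniteDimensional F V] in
/-- A subspace mapped into the union of two subspaces is mapped into one of them. -/
theorem map_le_or_le {A S T : Submodule F V} (f : V →ₗ[F] V) (h : ∀ v ∈ A, f v ∈ S ∨ f v ∈ T) :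
    (∀ v ∈ A, f v ∈ S) ∨ ∀ v ∈ A, f v ∈ T := by
  by_contra hc
  push Not at hc
  obtain ⟨⟨x, hx, hxS⟩, y, hy, hyT⟩ := hc
  rcases h (x + y) (A.add_mem hx hy) with h' | h' <;> rw [map_add] at h'
  · exact hxS ((S.add_mem_iff_left ((h y hy).resolve_right hyT)).1 h')
  · exact hyT ((T.add_mem_iff_right ((h x hx).resolve_left hxS)).1 h')

omit [Finite F] in
/-- An element carrying the mixed root planes to root planes of the polarisation permutes the two parts. -/
theorem Polarised.mem_or_mem (h : Polarised Q A B) (hQ : Nondeg Q) (hk : 4 ≤ finrank F A) (hd : finrank F A = finrank F B)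
    (g : O Q)
    (hg : ∀ a b, a ∈ A → b ∈ B → polar Q a b = 0 →
      ∀ x, (x ∈ A → polar Q ((g : V ≃ₗ[F] V) b) x • (g : V ≃ₗ[F] V) a -
          polar Q ((g : V ≃ₗ[F] V) a) x • (g : V ≃ₗ[F] V) b ∈ A) ∧
        (x ∈ B → polar Q ((g : V ≃ₗ[F] V) b) x • (g : V ≃ₗ[F] V) a -
          polar Q ((g : V ≃ₗ[F] V) a) x • (g : V ≃ₗ[F] V) b ∈ B))
    {a : V} (ha : a ∈ A) : (g : V ≃ₗ[F] V) a ∈ A ∨ (g : V ≃ₗ[F] V) a ∈ B := by
  by_contra hc
  push Not at hc
  obtain ⟨hcA, hcB⟩ := hc
  obtain ⟨pA, hpA, pB, hpB, hp⟩ := h.dec ((g : V ≃ₗ[F] V) a)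
  have hpA0 : pA ≠ 0 := fun e => hcB (by rw [hp, e, zero_add]; exact hpB)
  have hpB0 : pB ≠ 0 := fun e => hcA (by rw [hp, e, add_zero]; exact hpA)
  obtain ⟨z, hz, -, hz1⟩ := h.exists_coord hQ (S := ⊥) bot_le hpA (by simpa using hpA0)
  obtain ⟨z', hz', -, hz1'⟩ := h.symm.exists_coord hQ (S := ⊥) bot_le hpB (by simpa using hpB0)
  -- the images lie in the span of the two components
  have key : ∀ b ∈ B, polar Q a b = 0 →
      ∃ s t : F, (g : V ≃ₗ[F] V) b = s • pA + t • pB := by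
    intro b hb hab
    obtain ⟨qA, hqA, qB, hqB, hq⟩ := h.dec ((g : V ≃ₗ[F] V) b)
    have e1 := (hg a b ha hb hab z').1 hz'
    have e2 := (hg a b ha hb hab z).2 hz
    rw [hp, hq, polar_add_left, polar_add_left, h.sA.polar_eq hqA hz', h.sA.polar_eq hpA hz', hz1', zero_add,
      zero_add, one_smul] at e1
    rw [hp, hq, polar_add_left, polar_add_left, h.sB.polar_eq hqB hz, h.sB.polar_eq hpB hz, hz1, add_zero,
      add_zero, one_smul] at e2
    refine ⟨polar Q qA z, polar Q qB z', ?_⟩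
    have f1 : polar Q qB z' • pB - qB = 0 := h.eq_zero (by
      have := A.sub_mem e1 (A.sub_mem (A.smul_mem (polar Q qB z') hpA) hqA)
      convert this using 1
      module) (B.sub_mem (B.smul_mem _ hpB) hqB)
    have f2 : polar Q qA z • pA - qA = 0 := h.eq_zero (A.sub_mem (A.smul_mem _ hpA) hqA) (by
      have := B.sub_mem e2 (B.sub_mem (B.smul_mem (polar Q qA z) hpB) hqB)
      convert this using 1
      module)
    rw [hq, sub_eq_zero.1 f1, sub_eq_zero.1 f2]
  -- two independent partners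
  have ha0 : a ≠ 0 := fun e => hcA (by rw [e, map_zero]; exact A.zero_mem)
  have hB3 : 3 ≤ finrank F ↥(B ⊓ perp Q (Submodule.span F {a})) := by
    have h1 := hQ.finrank_perp_singleton ha0
    have h3 := Submodule.finrank_sup_add_finrank_inf_eq B (perp Q (Submodule.span F {a}))
    have h4 := Submodule.finrank_le (B ⊔ perp Q (Submodule.span F {a}))
    omega
  obtain ⟨b, hb, hb0⟩ := (Submodule.ne_bot_iff (B ⊓ perp Q (Submodule.span F {a}))).1 fun e => by
    rw [e, finrank_bot] at hB3; omega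
  obtain ⟨b', hb', hb'b⟩ : ∃ b' ∈ B ⊓ perp Q (Submodule.span F {a}), b' ∉ Submodule.span F ({b} : Set V) := by
    by_contra hc'
    push Not at hc'
    have := Submodule.finrank_mono
      (show B ⊓ perp Q (Submodule.span F {a}) ≤ Submodule.span F ({b} : Set V) from hc')
    rw [finrank_span_singleton hb0] at this
    omega
  obtain ⟨s, t, hst⟩ := key b hb.1 ((mem_perp_span_singleton Q).1 hb.2)
  obtain ⟨s', t', hst'⟩ := key b' hb'.1 ((mem_perp_span_singleton Q).1 hb'.2)
  -- three vectors in a plane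
  have e : (s * t' - t * s') • a = (t' - s') • b - (t - s) • b' := (g : V ≃ₗ[F] V).injective (by
    rw [map_smul, map_sub, map_smul, map_smul, hp, hst, hst']
    module)
  have hco : s * t' - t * s' = 0 := by
    by_contra hne
    exact ha0 (h.eq_zero ha ((Submodule.smul_mem_iff _ hne).1
      (e ▸ B.sub_mem (B.smul_mem _ hb.1) (B.smul_mem _ hb'.1))))
  rw [hco, zero_smul] at e
  by_cases hts : t - s = 0
  · have hb'' : (t' - s') • b = 0 := by rw [hts, zero_smul, sub_zero] at e; exact e.symm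
    have h1 : t' = s' := sub_eq_zero.1 ((smul_eq_zero.1 hb'').resolve_right hb0)
    have h2 : t = s := sub_eq_zero.1 hts
    have e' : ∀ (x : V) (r : F), (g : V ≃ₗ[F] V) x = r • pA + r • pB → x = r • a := fun x r hx =>
      (g : V ≃ₗ[F] V).injective (by rw [map_smul, hp, hx, smul_add])
    have hba : b = s • a := e' b s (by rw [hst, h2])
    exact hb0 (h.eq_zero (hba ▸ A.smul_mem _ ha) hb.1)
  · refine hb'b (Submodule.mem_span_singleton.2 ⟨(t - s)⁻¹ * (t' - s'), ?_⟩)
    rw [mul_smul, sub_eq_zero.1 e.symm, inv_smul_smul₀ hts]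

/-- An overgroup of the stabiliser of a polarisation contains Ω. -/
theorem sieGroup_le_of_polarised (hQ : Nondeg Q) (hn : 5 ≤ finrank F V) (h : Polarised Q A B)
    (hk : 5 ≤ finrank F A) (hd : finrank F A = finrank F B)
    (hX : ∀ x ∈ commutator (O Q), (∀ v ∈ A, (x : V ≃ₗ[F] V) v ∈ A) → (∀ v ∈ B, (x : V ≃ₗ[F] V) v ∈ B) → x ∈ X)
    {σ : O Q} (hσ : σ ∈ X) (hσA : ∀ v ∈ A, (σ : V ≃ₗ[F] V) v ∈ B) (hσB : ∀ v ∈ B, (σ : V ≃ₗ[F] V) v ∈ A)
    (hg : ∃ g ∈ X, ¬(((∀ v ∈ A, (g : V ≃ₗ[F] V) v ∈ A) ∧ ∀ v ∈ B, (g : V ≃ₗ[F] V) v ∈ B) ∨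
      ((∀ v ∈ A, (g : V ≃ₗ[F] V) v ∈ B) ∧ ∀ v ∈ B, (g : V ≃ₗ[F] V) v ∈ A))) : sieGroup Q ≤ X := by
  have hcomm : ∀ u w (hu : Q u = 0) (hw : polar Q u w = 0), sie u w hu hw ∈ commutator (O Q) :=
    fun u w hu hw => by rw [← sieGroup_eq_commutator hQ hn]; exact sie_mem hu hw
  have hmix : ∀ a b (hQa : Q a = 0) (hab : polar Q a b = 0), a ∈ A → b ∈ B → sie a b hQa hab ∈ X := by
    intro a b hQa hab ha hb
    obtain ⟨h1, h2⟩ := h.sie_maps ha hb hQa hab
    exact hX _ (hcomm a b hQa hab) (fun v hv => by rw [h1 v hv]; exact A.add_mem hv (A.smul_mem _ ha))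
      (fun v hv => by rw [h2 v hv]; exact B.sub_mem hv (B.smul_mem _ hb))
  have hmix' : ∀ b a (hQb : Q b = 0) (hba : polar Q b a = 0), b ∈ B → a ∈ A → sie b a hQb hba ∈ X := by
    intro b a hQb hba hb ha
    obtain ⟨h1, h2⟩ := h.symm.sie_maps hb ha hQb hba
    exact hX _ (hcomm b a hQb hba) (fun v hv => by rw [h2 v hv]; exact A.sub_mem hv (A.smul_mem _ ha))
      (fun v hv => by rw [h1 v hv]; exact B.add_mem hv (B.smul_mem _ hb))
  obtain ⟨g, hgX, hgS⟩ := hg
  obtain ⟨c, d, hQc, hcd, hτ, hmove⟩ : ∃ (c d : V) (hQc : Q c = 0) (hcd : polar Q c d = 0),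
      sie c d hQc hcd ∈ X ∧ ((∃ x ∈ A, (sie c d hQc hcd : V ≃ₗ[F] V) x ∉ A) ∨
        ∃ x ∈ B, (sie c d hQc hcd : V ≃ₗ[F] V) x ∉ B) := by
    by_contra hc
    push Not at hc
    have hplane : ∀ a b, a ∈ A → b ∈ B → polar Q a b = 0 → ∀ x,
        (x ∈ A → polar Q ((g : V ≃ₗ[F] V) b) x • (g : V ≃ₗ[F] V) a -
          polar Q ((g : V ≃ₗ[F] V) a) x • (g : V ≃ₗ[F] V) b ∈ A) ∧
        (x ∈ B → polar Q ((g : V ≃ₗ[F] V) b) x • (g : V ≃ₗ[F] V) a -
          polar Q ((g : V ≃ₗ[F] V) a) x • (g : V ≃ₗ[F] V) b ∈ B) := by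
      intro a b ha hb hab x
      have hm := X.mul_mem (X.mul_mem hgX (hmix a b (h.sA a ha) hab ha hb)) (X.inv_mem hgX)
      rw [sie_conj] at hm
      obtain ⟨h1, h2⟩ := hc _ _ _ _ hm
      refine ⟨fun hx => ?_, fun hx => ?_⟩
      · have := A.sub_mem (h1 x hx) hx
        rwa [sie_app, O.map_app, h.sB b hb, zero_mul, sub_zero, add_sub_assoc, add_sub_cancel_left] at this
      · have := B.sub_mem (h2 x hx) hx
        rwa [sie_app, O.map_app, h.sB b hb, zero_mul, sub_zero, add_sub_assoc, add_sub_cancel_left] at this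
    have hA : (∀ v ∈ A, (g : V ≃ₗ[F] V) v ∈ A) ∨ ∀ v ∈ A, (g : V ≃ₗ[F] V) v ∈ B :=
      map_le_or_le ((g : V ≃ₗ[F] V) : V →ₗ[F] V) fun v hv => h.mem_or_mem hQ (by omega) hd g hplane hv
    have hB : (∀ v ∈ B, (g : V ≃ₗ[F] V) v ∈ B) ∨ ∀ v ∈ B, (g : V ≃ₗ[F] V) v ∈ A :=
      map_le_or_le ((g : V ≃ₗ[F] V) : V →ₗ[F] V) fun v hv => h.symm.mem_or_mem hQ (by omega) hd.symm g
        (fun a b ha hb hab x => by
          have hba : polar Q b a = 0 := by rw [polar_comm]; exact hab
          obtain ⟨e1, e2⟩ := hplane b a hb ha hba x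
          refine ⟨fun hx => ?_, fun hx => ?_⟩
          · rw [← neg_sub]; exact B.neg_mem (e2 hx)
          · rw [← neg_sub]; exact A.neg_mem (e1 hx)) hv
    have disj : ∀ {S T : Submodule F V}, (∀ v ∈ S, (g : V ≃ₗ[F] V) v ∈ A) → (∀ v ∈ T, (g : V ≃ₗ[F] V) v ∈ A) →
        finrank F A < finrank F S + finrank F T → S ⊓ T ≠ ⊥ := by
      intro S T hS hT hlt he
      have h1 := Submodule.finrank_mono (show (S ⊔ T).map ((g : V ≃ₗ[F] V) : V →ₗ[F] V) ≤ A by
        rw [Submodule.map_le_iff_le_comap]; exact sup_le (fun v hv => hS v hv) fun v hv => hT v hv)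
      have h2 := Submodule.finrank_sup_add_finrank_inf_eq S T
      rw [he, finrank_bot] at h2
      rw [LinearEquiv.finrank_map_eq] at h1
      omega
    rcases hA with hA | hA <;> rcases hB with hB | hB
    · exact hgS (Or.inl ⟨hA, hB⟩)
    · exact disj hA hB (by omega) h.compl.inf_eq_bot
    · have h1 := Submodule.finrank_mono (show (A ⊔ B).map ((g : V ≃ₗ[F] V) : V →ₗ[F] V) ≤ B by
        rw [Submodule.map_le_iff_le_comap]; exact sup_le (fun v hv => hA v hv) fun v hv => hB v hv)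
      have h2 := Submodule.finrank_sup_add_finrank_inf_eq A B
      rw [h.compl.inf_eq_bot, finrank_bot] at h2
      rw [LinearEquiv.finrank_map_eq] at h1
      omega
    · exact hgS (Or.inr ⟨hA, hB⟩)
  obtain ⟨a, ha, ha0, hfull⟩ : ∃ a, (a ∈ A ∨ a ∈ B) ∧ a ≠ 0 ∧ Full X a := by
    rcases hmove with hm | hm
    · obtain ⟨a, ha, ha0, hf⟩ := h.symm.exists_full hQ (by omega) hmix' hQc hcd hτ hm
      exact ⟨a, Or.inr ha, ha0, hf⟩
    · obtain ⟨a, ha, ha0, hf⟩ := h.exists_full hQ hk hmix hQc hcd hτ hm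
      exact ⟨a, Or.inl ha, ha0, hf⟩
  -- move it to a nonorthogonal centre
  suffices ∀ {A B : Submodule F V}, Polarised Q A B →
      (∀ a b (hQa : Q a = 0) (hab : polar Q a b = 0), a ∈ A → b ∈ B → sie a b hQa hab ∈ X) →
      (∀ v ∈ A, (σ : V ≃ₗ[F] V) v ∈ B) → ∀ a ∈ A, a ≠ 0 → Full X a → sieGroup Q ≤ X by
    rcases ha with ha | ha
    · exact this h hmix hσA a ha ha0 hfull
    · exact this h.symm hmix' hσB a ha ha0 hfull
  intro A B h hmix hσA a ha ha0 hfull
  have hf1 := hfull.map hσ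
  have hσa0 : (σ : V ≃ₗ[F] V) a ≠ 0 := fun e => ha0 ((σ : V ≃ₗ[F] V).injective (by rw [e, map_zero]))
  have hn3 : 3 ≤ finrank F V := by omega
  have hQσa : Q ((σ : V ≃ₗ[F] V) a) = 0 := h.sB _ (hσA a ha)
  by_cases hne : polar Q a ((σ : V ≃ₗ[F] V) a) = 0
  swap
  · exact sieGroup_le_of_pair hQ hn3 hfull hf1 (h.sA a ha) hQσa hne
  obtain ⟨e, he, -, he1⟩ := h.symm.exists_coord hQ (S := ⊥) bot_le (hσA a ha) (by simpa using hσa0)
  have hea : a ∉ Submodule.span F ({e} : Set V) := fun hm => by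
    obtain ⟨r, rfl⟩ := Submodule.mem_span_singleton.1 hm
    rw [polar_smul_left', polar_comm (⇑Q) e, he1, mul_one] at hne
    exact ha0 (by rw [hne, zero_smul])
  obtain ⟨z, hz, hze, hz1⟩ := h.exists_coord hQ (S := Submodule.span F {e}) (by simpa using he) ha hea
  have hez : polar Q e z = 0 := hze e (Submodule.mem_span_singleton_self e)
  have hf2 := hfull.map (hmix e z (h.sA e he) hez he hz)
  rw [(h.sie_maps he hz (h.sA e he) hez).1 a ha, polar_comm, hz1, one_smul] at hf2
  exact sieGroup_le_of_pair hQ hn3 hf2 hf1 (h.sA _ (A.add_mem ha he)) hQσa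
    (by rw [polar_add_left, hne, zero_add, polar_comm (⇑Q) e, he1]; exact one_ne_zero)

omit [Finite F] in
/-- The two parts of an even-dimensional polarisation are interchanged in Ω. -/
theorem Polarised.exists_swap (h : Polarised Q A B) (hQ : Nondeg Q) (hev : Even (finrank F A))
    (hd : finrank F A = finrank F B) :
    ∃ σ ∈ commutator (O Q), (∀ v ∈ A, (σ : V ≃ₗ[F] V) v ∈ B) ∧ ∀ v ∈ B, (σ : V ≃ₗ[F] V) v ∈ A := by
  let bA := Module.finBasis F A
  have hdual : ∀ i, ∃ y ∈ B, ∀ j, polar Q (bA j : V) y = if j = i then 1 else 0 := by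
    intro i
    have hi : (bA i : V) ∉ (Submodule.span F (bA '' {j | j ≠ i})).map A.subtype := by
      rintro ⟨x, hx, hxe⟩
      rw [Subtype.ext hxe] at hx
      exact bA.linearIndependent.notMem_span_image (by simp) hx
    obtain ⟨y, hy, hys, hy1⟩ := h.exists_coord hQ (Submodule.map_subtype_le A _) (bA i).2 hi
    refine ⟨y, hy, fun j => ?_⟩
    rcases eq_or_ne j i with rfl | hj
    · rw [if_pos rfl, hy1]
    · rw [if_neg hj]
      exact hys _ ⟨bA j, Submodule.subset_span ⟨j, hj, rfl⟩, rfl⟩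
  choose w hw hwd using hdual
  set v := fun i => (bA i : V) + w i with hv
  have hQv : ∀ i, Q (v i) = 1 := fun i => by
    rw [hv, map_add_polar, h.sA _ (bA i).2, h.sB _ (hw i), hwd i i, if_pos rfl]; ring
  have hvb : ∀ i j, polar Q (v i) (bA j : V) = if j = i then 1 else 0 := fun i j => by
    rw [hv, polar_add_left, h.sA.polar_eq (bA i).2 (bA j).2, zero_add, polar_comm, hwd i j]
  -- products of the reflections
  have hprod : ∀ l : List (Fin (finrank F A)), Even l.length →
      (l.map fun i => rO Q (v i)).prod ∈ commutator (O Q) := by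
    intro l
    induction l using List.twoStepInduction with
    | nil => intro _; simp
    | singleton i => intro he; simp at he
    | cons_cons i j l ih =>
      intro he
      rw [List.map_cons, List.map_cons, List.prod_cons, List.prod_cons, ← mul_assoc]
      refine mul_mem (rO_mul_mem hQ (by rw [hQv]; exact one_ne_zero) (by rw [hQv, hQv])) (ih ?_)
      simpa [Nat.even_add_one] using he
  have hact : ∀ (l : List (Fin (finrank F A))), l.Nodup → ∀ j,
      (((l.map fun i => rO Q (v i)).prod : O Q) : V ≃ₗ[F] V) (bA j : V) =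
        if j ∈ l then -(w j) else (bA j : V) := by
    intro l
    induction l with
    | nil => intro _ j; simp
    | cons i l ih =>
      intro hnd j
      rw [List.nodup_cons] at hnd
      rw [List.map_cons, List.prod_cons, Subgroup.coe_mul, mul_app, ih hnd.2 j]
      rcases eq_or_ne j i with rfl | hj
      · rw [if_neg hnd.1, if_pos List.mem_cons_self, rO_app, hQv, hvb j j, if_pos rfl, inv_one, mul_one, one_smul,
          hv]
        module
      · by_cases hjl : j ∈ l
        · rw [if_pos hjl, if_pos (List.mem_cons_of_mem _ hjl), map_neg, rO_fix]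
          rw [hv, polar_add_left, h.sB.polar_eq (hw i) (hw j), add_zero, hwd j i, if_neg (Ne.symm hj)]
        · rw [if_neg hjl, if_neg (by simp [hj, hjl]), rO_fix (by rw [hvb i j, if_neg hj])]
  refine ⟨_, hprod (List.finRange (finrank F A)) (by simpa using hev), ?_⟩
  have hσ : ∀ j, (((((List.finRange (finrank F A)).map fun i => rO Q (v i)).prod : O Q)) : V ≃ₗ[F] V) (bA j : V) =
      -(w j) := fun j => by rw [hact _ (List.nodup_finRange _) j, if_pos (List.mem_finRange j)]
  set σ := (((List.finRange (finrank F A)).map fun i => rO Q (v i)).prod : O Q)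
  have hA : ∀ x ∈ A, (σ : V ≃ₗ[F] V) x ∈ B := by
    intro x hx
    have := congrArg Subtype.val (bA.sum_repr ⟨x, hx⟩)
    rw [Submodule.coe_sum, Submodule.coe_mk] at this
    rw [← this, map_sum]
    refine B.sum_mem fun j _ => ?_
    rw [Submodule.coe_smul, map_smul, hσ]
    exact B.smul_mem _ (B.neg_mem (hw j))
  have hvw : ∀ i j, polar Q (v i) (w j) = if i = j then 1 else 0 := fun i j => by
    rw [hv, polar_add_left, h.sB.polar_eq (hw i) (hw j), add_zero, hwd j i]
  have hact' : ∀ (l : List (Fin (finrank F A))), l.Nodup → ∀ j,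
      (((l.map fun i => rO Q (v i)).prod : O Q) : V ≃ₗ[F] V) (w j) = if j ∈ l then -(bA j : V) else w j := by
    intro l
    induction l with
    | nil => intro _ j; simp
    | cons i l ih =>
      intro hnd j
      rw [List.nodup_cons] at hnd
      rw [List.map_cons, List.prod_cons, Subgroup.coe_mul, mul_app, ih hnd.2 j]
      rcases eq_or_ne j i with rfl | hj
      · rw [if_neg hnd.1, if_pos List.mem_cons_self, rO_app, hQv, hvw j j, if_pos rfl, inv_one, mul_one, one_smul,
          hv]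
        module
      · by_cases hjl : j ∈ l
        · rw [if_pos hjl, if_pos (List.mem_cons_of_mem _ hjl), map_neg, rO_fix (by rw [hvb i j, if_neg hj])]
        · rw [if_neg hjl, if_neg (by simp [hj, hjl]), rO_fix (by rw [hvw i j, if_neg (Ne.symm hj)])]
  refine ⟨hA, fun y hy => ?_⟩
  have hy' : y = ∑ j, polar Q (bA j : V) y • w j := by
    refine sub_eq_zero.1 (hQ _ fun z => ?_)
    obtain ⟨z₁, hz₁, z₂, hz₂, rfl⟩ := h.dec z
    have hB : y - ∑ j, polar Q (bA j : V) y • w j ∈ B :=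
      B.sub_mem hy (B.sum_mem fun j _ => B.smul_mem _ (hw j))
    rw [polar_add_right, h.sB.polar_eq hB hz₂, add_zero]
    have := congrArg Subtype.val (bA.sum_repr ⟨z₁, hz₁⟩)
    rw [Submodule.coe_sum, Submodule.coe_mk] at this
    rw [← this, ← polarBilin_apply', map_sum]
    refine Finset.sum_eq_zero fun i _ => ?_
    rw [Submodule.coe_smul, map_smul, polarBilin_apply', polar_comm, polar_sub_right,
      ← polarBilin_apply' Q (bA i : V) (∑ j, polar Q (bA j : V) y • w j), map_sum, Finset.sum_eq_single i]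
    · rw [map_smul, polarBilin_apply' Q (bA i : V) (w i), hwd i i, if_pos rfl]
      simp
    · intro j _ hj
      rw [map_smul, polarBilin_apply', hwd j i, if_neg (Ne.symm hj), smul_zero]
    · intro hi; exact absurd (Finset.mem_univ i) hi
  rw [hy', map_sum]
  refine A.sum_mem fun j _ => ?_
  rw [map_smul, show (σ : V ≃ₗ[F] V) (w j) = -(bA j : V) by
    rw [hact' _ (List.nodup_finRange _) j, if_pos (List.mem_finRange j)]]
  exact A.smul_mem _ (A.neg_mem (bA j).2)

end Cfsg.Agent.H98.OrthMax
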