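import Cfsg.Agent.H96.OmegaBridge
import Cfsg.Agent.Orthogonal.Witt
import Cfsg.Agent.Orthogonal.Frame

/-!
Maximality in Ω from Eichler transformations: a subgroup containing the full root groups of two nonorthogonal singular
vectors contains Ω.
-/

set_option autoImplicit false

namespace Cfsg.Agent.H98.OrthMax

open QuadraticMap Module Cfsg.Agent.Orthogonal

section Abstract

variable {F V : Type*} [Field F] [AddCommGroup V] [Module F V] [FiniteDimensional F V]
  {Q : QuadraticForm F V}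

/-- `X` contains every Eichler transformation with centre `u`. -/
def Full (X : Subgroup (O Q)) (u : V) : Prop :=
  ∀ (w : V) (hu : Q u = 0) (hw : polar Q u w = 0), sie u w hu hw ∈ X

variable {X : Subgroup (O Q)}

omit [FiniteDimensional F V] in
theorem Full.map {u : V} (h : Full X u) {g : O Q} (hg : g ∈ X) : Full X ((g : V ≃ₗ[F] V) u) := by
  intro w hu hw
  have hu' : Q u = 0 := by rwa [O.map_app] at hu
  have hw' : polar Q u ((g : V ≃ₗ[F] V).symm w) = 0 := by
    rw [← O.polar_app g, LinearEquiv.apply_symm_apply]; exact hw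
  have := X.mul_mem (X.mul_mem hg (h _ hu' hw')) (X.inv_mem hg)
  rw [sie_conj] at this
  convert this using 1
  exact sie_congr _ _ _ _ rfl (by rw [LinearEquiv.apply_symm_apply])

omit [FiniteDimensional F V] in
theorem Full.smul {u : V} (h : Full X u) (hu : Q u = 0) (a : F) : Full X (a • u) := by
  intro w _ hw
  rcases eq_or_ne a 0 with rfl | ha
  · convert X.one_mem
    exact O.ext_app fun x => by rw [sie_app]; simp
  have hw' : polar Q u w = 0 := by
    rw [polar_smul_left'] at hw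
    exact (mul_eq_zero.1 hw).resolve_left ha
  rw [sie_smul hu hw']
  exact h _ _ _

omit [FiniteDimensional F V] in
/-- Vectors nonorthogonal to a centre follow one of them. -/
theorem Full.step {a f v : V} (ha : Full X a) (hf : Full X f) (hQa : Q a = 0) (hQf : Q f = 0)
    (haf : polar Q a f ≠ 0) (hQv : Q v = 0) (hvf : polar Q v f ≠ 0) : Full X v := by
  set a₁ := (polar Q a f)⁻¹ • a with ha₁
  set v₁ := (polar Q v f)⁻¹ • v with hv₁
  have hQa₁ : Q a₁ = 0 := by rw [ha₁, qmap_smul, hQa, mul_zero]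
  have hQv₁ : Q v₁ = 0 := by rw [hv₁, qmap_smul, hQv, mul_zero]
  have h1 : polar Q a₁ f = 1 := by rw [ha₁, polar_smul_left', inv_mul_cancel₀ haf]
  have h2 : polar Q v₁ f = 1 := by rw [hv₁, polar_smul_left', inv_mul_cancel₀ hvf]
  clear_value a₁ v₁
  have h3 : polar Q f a₁ = 1 := by rw [polar_comm]; exact h1
  have hfw : polar Q f (a₁ - v₁ + polar Q a₁ v₁ • f) = 0 := by
    rw [polar_add_right, polar_sub_right, polar_smul_right', h3, polar_comm (⇑Q) f v₁, h2,
      polar_self', hQf]; ring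
  have hQw : Q (a₁ - v₁ + polar Q a₁ v₁ • f) = -polar Q a₁ v₁ := by
    simp only [map_add_polar, qmap_sub, qmap_smul, polar_sub_left, polar_smul_right', hQa₁, hQv₁, hQf,
      h1, h2]
    ring
  have hav : (sie f _ hQf hfw : V ≃ₗ[F] V) a₁ = v₁ := by
    rw [sie_app, hQw, h3]
    simp only [polar_add_left, polar_sub_left, polar_smul_left', polar_self', hQa₁, h3,
      polar_comm (⇑Q) v₁ a₁]
    match_scalars <;> ring
  have h := (ha.smul hQa (polar Q a f)⁻¹).map (hf _ hQf hfw)
  rw [← ha₁, hav] at h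
  have h' := h.smul hQv₁ (polar Q v f)
  rwa [hv₁, smul_inv_smul₀ hvf] at h'

/-- Two nonorthogonal centres give all the centres. -/
theorem sieGroup_le_of_pair (hQ : Nondeg Q) (hn : 3 ≤ finrank F V) {a f : V} (ha : Full X a) (hf : Full X f)
    (hQa : Q a = 0) (hQf : Q f = 0) (haf : polar Q a f ≠ 0) : sieGroup Q ≤ X := by
  have hall : ∀ v, Q v = 0 → v ≠ 0 → Full X v := by
    intro v hv hv0
    by_cases h : polar Q v f = 0
    swap
    · exact ha.step hf hQa hQf haf hv h
    have hf0 : f ≠ 0 := fun h0 => haf (by rw [h0, polar_zero_right])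
    obtain ⟨c, hc, hcv, hcf⟩ := exists_common_partner hQ hn hv0 hf0 hv hQf
    exact hf.step (ha.step hf hQa hQf haf hc (by rwa [polar_comm])) hQf hc hcf hv hcv
  rw [sieGroup, Subgroup.closure_le]
  rintro g ⟨u, w, hu, hw, rfl⟩
  rcases eq_or_ne u 0 with rfl | hu0
  · rw [SetLike.mem_coe]
    convert X.one_mem
    exact O.ext_app fun x => by rw [sie_app]; simp
  · exact hall u hu hu0 w hu hw

end Abstract

variable {F : Type*} [Field F] [Finite F] {ι : Type} [Fintype ι] [DecidableEq ι] {Q : QuadraticForm F (ι → F)}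

/-- A criterion for maximality in Ω. -/
theorem isMaximalIn_omega (hQ : Nondeg Q) (hn : 5 ≤ finrank F (ι → F)) (S : Subgroup (GL ι F))
    (hne : ∃ x ∈ commutator (O Q), H96.om Q x ∉ S)
    (hmain : ∀ X : Subgroup (O Q), (∀ x ∈ commutator (O Q), H96.om Q x ∈ S → x ∈ X) →
      (∃ x ∈ X, H96.om Q x ∉ S) → sieGroup Q ≤ X) :
    Cfsg.Geo.IsMaximalIn (Cfsg.Geo.omegaGL ⇑Q) (S ⊓ Cfsg.Geo.omegaGL ⇑Q) := by
  refine ⟨lt_of_le_not_ge inf_le_right fun h => ?_, fun M hM hMG => ?_⟩
  · obtain ⟨x, hx, hxS⟩ := hne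
    exact hxS (h ((H96.mem_omegaGL_iff Q _).2 ⟨x, hx, rfl⟩)).1
  by_cases hMS : M ≤ S
  · exact Or.inl (le_antisymm (le_inf hMS hMG) hM)
  refine Or.inr (le_antisymm hMG ?_)
  obtain ⟨g, hg, hgS⟩ := SetLike.not_le_iff_exists.1 hMS
  obtain ⟨x, hx, rfl⟩ := (H96.mem_omegaGL_iff Q g).1 (hMG hg)
  have hle := hmain (M.comap (H96.om Q))
    (fun y hy hyS => hM ⟨hyS, (H96.mem_omegaGL_iff Q _).2 ⟨y, hy, rfl⟩⟩) ⟨x, hg, hgS⟩
  intro g hg
  obtain ⟨y, hy, rfl⟩ := (H96.mem_omegaGL_iff Q g).1 hg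
  rw [← sieGroup_eq_commutator hQ hn] at hy
  exact hle hy

omit [Finite F] in
theorem sie_mem_commutator [Finite F] (hQ : Nondeg Q) (hn : 5 ≤ finrank F (ι → F)) {u w : ι → F}
    (hu : Q u = 0) (hw : polar Q u w = 0) : sie u w hu hw ∈ commutator (O Q) := by
  rw [← sieGroup_eq_commutator hQ hn]
  exact sie_mem hu hw

omit [Finite F] in
/-- An Eichler transformation stabilises a subspace that it and its inverse map into itself. -/
theorem om_sie_mem_stabilizer {W : Submodule F (ι → F)} {u w : ι → F} (hu : Q u = 0) (hw : polar Q u w = 0)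
    (h : ∀ x ∈ W, (polar Q w x - Q w * polar Q u x) • u - polar Q u x • w ∈ W ∧
      (-(polar Q w x) - Q w * polar Q u x) • u + polar Q u x • w ∈ W) :
    H96.om Q (sie u w hu hw) ∈ Cfsg.Geo.subspaceStabilizer W := by
  rw [H96.mem_subspaceStabilizer_om]
  intro x
  constructor
  · intro hx
    rw [sie_app, add_sub_assoc]
    exact W.add_mem hx (h x hx).1
  · intro hx
    have := congrArg (fun g : O Q => (g : (ι → F) ≃ₗ[F] (ι → F)) x) (inv_mul_cancel (sie u w hu hw))
    simp only [Subgroup.coe_mul, mul_app, OneMemClass.coe_one, one_app, sie_inv] at this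
    rw [← this, sie_app, add_sub_assoc]
    refine W.add_mem hx ?_
    have h2 := (h _ hx).2
    rwa [polar_neg_left, QuadraticMap.map_neg, smul_neg, sub_neg_eq_add]

end Cfsg.Agent.H98.OrthMax
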