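import Cfsg.Agent.H98.OrthMax.Roots

/-!
Stabilisers in Ω of nonsingular points.
-/

set_option autoImplicit false

namespace Cfsg.Agent.H98.OrthMax

open QuadraticMap Module Cfsg.Agent.Orthogonal

section Abstract

variable {F V : Type*} [Field F] [Finite F] [AddCommGroup V] [Module F V] [FiniteDimensional F V]
  {Q : QuadraticForm F V} {X : Subgroup (O Q)}

omit [Finite F] in
/-- Two hyperplanes of admissible vectors fill the root group. -/
theorem full_of_two (hQ : Nondeg Q) {u v v' : V} (hv' : v' ∉ Submodule.span F {v, u})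
    (h : ∀ (w : V) (hu : Q u = 0) (hw : polar Q u w = 0), polar Q v w = 0 → sie u w hu hw ∈ X)
    (h' : ∀ (w : V) (hu : Q u = 0) (hw : polar Q u w = 0), polar Q v' w = 0 → sie u w hu hw ∈ X) : Full X u := by
  intro w hu hw
  obtain ⟨z, hz, hz'⟩ : ∃ z ∈ perp Q (Submodule.span F {v, u}), polar Q v' z ≠ 0 := by
    by_contra hc
    push Not at hc
    refine hv' ?_
    rw [← hQ.perp_perp (Submodule.span F {v, u}), mem_perp']
    exact hc
  obtain ⟨hzv, hzu⟩ := (mem_perp_span_pair Q).1 hz
  have hu1 : polar Q u ((polar Q v' w / polar Q v' z) • z) = 0 := by rw [polar_smul_right', hzu, mul_zero]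
  have hu2 : polar Q u (w - (polar Q v' w / polar Q v' z) • z) = 0 := by rw [polar_sub_right, hw, hu1, sub_zero]
  have := X.mul_mem (h _ hu hu1 (by rw [polar_smul_right', hzv, mul_zero]))
    (h' _ hu hu2 (by rw [polar_sub_right, polar_smul_right', div_mul_cancel₀ _ hz', sub_self]))
  rw [sie_mul] at this
  convert this using 1
  exact sie_congr _ _ _ _ rfl (add_sub_cancel _ w).symm

/-- Two nonorthogonal singular vectors orthogonal to, and outside, a small subspace. -/
theorem exists_pair_perp (hQ : Nondeg Q) {L : Submodule F V} (hL : 2 * finrank F L + 3 ≤ finrank F V) :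
    ∃ u f, Q u = 0 ∧ Q f = 0 ∧ polar Q u f = 1 ∧ u ∈ perp Q L ∧ f ∈ perp Q L ∧ u ∉ L ∧ f ∉ L := by
  obtain ⟨C, hC⟩ := Submodule.exists_isCompl (L.comap (perp Q L).subtype)
  set C' := C.map (perp Q L).subtype with hC'
  have hC'le : C' ≤ perp Q L := by
    rintro _ ⟨x, -, rfl⟩
    exact x.2
  have hdisj : ∀ x ∈ C', x ∈ L → x = 0 := by
    rintro _ ⟨x, hx, rfl⟩ hxL
    have : x ∈ L.comap (perp Q L).subtype ⊓ C := ⟨hxL, hx⟩
    rw [hC.inf_eq_bot, Submodule.mem_bot] at this
    rw [this]; rfl
  have hnd : Nondeg (restr Q C') := by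
    rw [nondeg_restr_iff, eq_bot_iff]
    rintro x ⟨hxC, hxp⟩
    refine (Submodule.mem_bot F).2 (hdisj x hxC ?_)
    rw [← hQ.perp_perp L, mem_perp']
    intro y hy
    obtain ⟨a, ha, c, hc, hac⟩ := Submodule.mem_sup.1
      (hC.sup_eq_top ▸ Submodule.mem_top : (⟨y, hy⟩ : perp Q L) ∈ L.comap (perp Q L).subtype ⊔ C)
    have hy' : y = (a : V) + c := by rw [← Submodule.coe_add, hac]
    rw [hy', polar_add_right, polar_comm (⇑Q) x (a : V),
      show polar Q (a : V) x = 0 from hC'le hxC _ ha, polar_comm,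
      show polar Q (c : V) x = 0 from hxp _ ⟨c, hc, rfl⟩, add_zero]
  have hdim : 3 ≤ finrank F C' := by
    have h1 := hQ.finrank_add_perp L
    have h2 := Submodule.finrank_add_eq_of_isCompl hC
    have h3 : finrank F C' = finrank F C :=
      (Submodule.equivMapOfInjective _ (perp Q L).injective_subtype C).finrank_eq.symm
    have h4 : finrank F ↥(L.comap (perp Q L).subtype) ≤ finrank F L := by
      rw [(Submodule.equivMapOfInjective _ (perp Q L).injective_subtype _).finrank_eq, Submodule.map_comap_eq]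
      exact Submodule.finrank_mono inf_le_right
    omega
  obtain ⟨u, hu0, hu⟩ := hnd.exists_singular hdim
  obtain ⟨f, hf, huf⟩ := hnd.exists_partner hu0 hu
  rw [polar_restr] at huf
  refine ⟨u, f, hu, hf, huf, hC'le u.2, hC'le f.2, fun h => hu0 (Subtype.ext (hdisj u u.2 h)), fun h => ?_⟩
  rw [hdisj f f.2 h, polar_zero_right] at huf
  exact zero_ne_one huf

end Abstract

variable {F : Type*} [Field F] [Finite F] {ι : Type} [Fintype ι] [DecidableEq ι] {Q : QuadraticForm F (ι → F)}

theorem isMaximalIn_point (hQ : Nondeg Q) (hn : 7 ≤ finrank F (ι → F)) {v : ι → F} (hv : Q v ≠ 0) :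
    Cfsg.Geo.IsMaximalIn (Cfsg.Geo.omegaGL ⇑Q)
      (Cfsg.Geo.subspaceStabilizer (Submodule.span F {v}) ⊓ Cfsg.Geo.omegaGL ⇑Q) := by
  refine isMaximalIn_omega hQ (by omega) _ ?_ fun X hX hg => ?_
  · have hL : finrank F (Submodule.span F ({v} : Set (ι → F))) ≤ 1 := (finrank_span_le_card _).trans (by simp)
    obtain ⟨u, f, hu, -, -, huv, -, huL, -⟩ := exists_pair_perp hQ (L := Submodule.span F {v}) (by omega)
    obtain ⟨w, hw, hwv⟩ : ∃ w ∈ perp Q (Submodule.span F {u}), polar Q w v ≠ 0 := by
      by_contra hc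
      push Not at hc
      have : v ∈ perp Q (perp Q (Submodule.span F {u})) := fun w hw => hc w hw
      rw [hQ.perp_perp, Submodule.mem_span_singleton] at this
      obtain ⟨a, rfl⟩ := this
      exact hv (by rw [qmap_smul, hu, mul_zero])
    rw [mem_perp_span_singleton] at hw
    refine ⟨sie u w hu hw, sie_mem_commutator hQ (by omega) hu hw, fun hmem => ?_⟩
    have huv' : polar Q u v = 0 := (polar_comm (⇑Q) u v).trans (huv v (Submodule.mem_span_singleton_self v))
    have h1 := ((H96.mem_subspaceStabilizer_om Q _ _).1 hmem v).1 (Submodule.mem_span_singleton_self v)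
    rw [sie_app, huv', mul_zero, sub_zero, zero_smul, sub_zero,
      Submodule.add_mem_iff_right _ (Submodule.mem_span_singleton_self v), Submodule.smul_mem_iff _ hwv] at h1
    exact huL h1
  obtain ⟨g, hgX, hgS⟩ := hg
  set v' := (g : (ι → F) ≃ₗ[F] (ι → F)) v with hv'
  have hv'L : v' ∉ Submodule.span F {v} := by
    intro h
    obtain ⟨a, ha⟩ := Submodule.mem_span_singleton.1 h
    have ha0 : a ≠ 0 := fun h0 => hv (by
      have := O.map_app g v
      rw [← hv', ← ha, h0, zero_smul, map_zero] at this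
      exact this.symm)
    refine hgS ((H96.mem_subspaceStabilizer_om Q _ g).2 fun x => ⟨fun hx => ?_, fun hx => ?_⟩)
    · obtain ⟨b, rfl⟩ := Submodule.mem_span_singleton.1 hx
      rw [map_smul, ← hv']
      exact Submodule.smul_mem _ b h
    · obtain ⟨b, hb⟩ := Submodule.mem_span_singleton.1 hx
      have : x = (b / a) • v := (g : (ι → F) ≃ₗ[F] (ι → F)).injective (by
        rw [map_smul, ← hv', ← ha, smul_smul, div_mul_cancel₀ _ ha0, hb])
      rw [this]
      exact Submodule.smul_mem _ _ (Submodule.mem_span_singleton_self v)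
  have h0 : ∀ (u w : ι → F) (hu : Q u = 0) (hw : polar Q u w = 0), polar Q v u = 0 → polar Q v w = 0 →
      sie u w hu hw ∈ X := fun u w hu hw h1 h2 =>
    hX _ (sie_mem_commutator hQ (by omega) hu hw) (om_sie_mem_stabilizer hu hw fun x hx => by
      obtain ⟨b, rfl⟩ := Submodule.mem_span_singleton.1 hx
      rw [polar_smul_right', polar_smul_right', polar_comm (⇑Q) w v, polar_comm (⇑Q) u v, h1, h2]
      simp)
  have h0' : ∀ (u w : ι → F) (hu : Q u = 0) (hw : polar Q u w = 0), polar Q v' u = 0 → polar Q v' w = 0 →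
      sie u w hu hw ∈ X := fun u w hu hw h1 h2 => by
    have hu' : Q ((g : (ι → F) ≃ₗ[F] (ι → F)).symm u) = 0 := by
      rw [← O.map_app g, LinearEquiv.apply_symm_apply]; exact hu
    have hw' : polar Q ((g : (ι → F) ≃ₗ[F] (ι → F)).symm u) ((g : (ι → F) ≃ₗ[F] (ι → F)).symm w) = 0 := by
      rw [← O.polar_app g, LinearEquiv.apply_symm_apply, LinearEquiv.apply_symm_apply]; exact hw
    have := X.mul_mem (X.mul_mem hgX (h0 _ _ hu' hw'
      (by rw [← O.polar_app g, LinearEquiv.apply_symm_apply]; exact h1)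
      (by rw [← O.polar_app g, LinearEquiv.apply_symm_apply]; exact h2))) (X.inv_mem hgX)
    rw [sie_conj] at this
    convert this using 1
    exact sie_congr _ _ _ _ (by rw [LinearEquiv.apply_symm_apply]) (by rw [LinearEquiv.apply_symm_apply])
  have hL : finrank F (Submodule.span F ({v, v'} : Set (ι → F))) ≤ 2 := by
    classical
    rw [show ({v, v'} : Set (ι → F)) = ↑({v, v'} : Finset (ι → F)) from by simp]
    exact (finrank_span_finset_le_card _).trans Finset.card_le_two
  obtain ⟨u, f, hu, hf, huf, huL, hfL, huN, hfN⟩ := exists_pair_perp hQ (L := Submodule.span F {v, v'}) (by omega)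
  have hfull : ∀ z, z ∈ perp Q (Submodule.span F {v, v'}) → z ∉ Submodule.span F {v, v'} → Full X z := by
    intro z hz hzN
    obtain ⟨hz1, hz2⟩ := (mem_perp_span_pair Q).1 hz
    refine full_of_two hQ (v := v) (v' := v') (fun h => hzN ?_) (fun w hu hw => h0 z w hu hw hz1)
      (fun w hu hw => h0' z w hu hw hz2)
    obtain ⟨a, b, hab⟩ := Submodule.mem_span_pair.1 h
    have hb : b ≠ 0 := fun hb => hv'L (Submodule.mem_span_singleton.2 ⟨a, by rw [← hab, hb, zero_smul, add_zero]⟩)
    rw [← Submodule.smul_mem_iff _ hb, show b • z = v' - a • v from eq_sub_of_add_eq' hab]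
    exact Submodule.sub_mem _ (Submodule.subset_span (by simp)) (Submodule.smul_mem _ a (Submodule.subset_span (by simp)))
  exact sieGroup_le_of_pair hQ (by omega) (hfull u huL huN) (hfull f hfL hfN) hu hf (by rw [huf]; exact one_ne_zero)

end Cfsg.Agent.H98.OrthMax
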