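import Cfsg.Agent.H98.OrthMax.Roots

/-!
Stabilisers in Ω of totally singular subspaces are maximal, apart from the subspaces one dimension below the maximum
in plus type.
-/

set_option autoImplicit false

namespace Cfsg.Agent.H98.OrthMax

open QuadraticMap Module Cfsg.Agent.Orthogonal

variable {F : Type*} [Field F] [Finite F] {ι : Type} [Fintype ι] [DecidableEq ι] {Q : QuadraticForm F (ι → F)}

theorem isMaximalIn_totSing (hQ : Nondeg Q) (hn : 5 ≤ finrank F (ι → F)) {W : Submodule F (ι → F)}
    (hW0 : W ≠ ⊥) (hW : TotSing Q W)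
    (hdim : ∀ U : Submodule F (ι → F), TotSing Q U → 2 * finrank F U = finrank F (ι → F) →
      2 * (finrank F W + 1) ≠ finrank F (ι → F)) :
    Cfsg.Geo.IsMaximalIn (Cfsg.Geo.omegaGL ⇑Q) (Cfsg.Geo.subspaceStabilizer W ⊓ Cfsg.Geo.omegaGL ⇑Q) := by
  refine isMaximalIn_omega hQ hn _ ?_ fun X hX hg => ?_
  · obtain ⟨u, huW, hu0⟩ := (Submodule.ne_bot_iff W).1 hW0
    obtain ⟨f, hf, huf⟩ := hQ.exists_partner hu0 (hW u huW)
    have hf0 : f ≠ 0 := fun h => by simp [h] at huf
    obtain ⟨g, hg, s, hs, hgu⟩ := exists_sie_point hQ (by omega) hu0 hf0 (hW u huW) hf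
    rw [sieGroup_eq_commutator hQ hn] at hg
    refine ⟨g, hg, fun hmem => ?_⟩
    have h1 := ((H96.mem_subspaceStabilizer_om Q W g).1 hmem u).1 huW
    rw [hgu, Submodule.smul_mem_iff _ hs] at h1
    rw [hW.polar_eq huW h1] at huf
    exact zero_ne_one huf
  have hfullW : ∀ u ∈ W, Full X u := fun u hu w hQu hw =>
    hX _ (sie_mem_commutator hQ hn hQu hw) (om_sie_mem_stabilizer hQu hw fun x hx => by
      rw [hW.polar_eq hu hx]
      simp [W.smul_mem _ hu])
  by_contra hle
  -- all centres are pairwise orthogonal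
  have horth : ∀ a b, Q a = 0 → Q b = 0 → Full X a → Full X b → polar Q a b = 0 := fun a b ha hb hfa hfb => by
    by_contra h
    exact hle (sieGroup_le_of_pair hQ (by omega) hfa hfb ha hb h)
  set U : Submodule F (ι → F) := Submodule.span F {u | Q u = 0 ∧ Full X u} with hU
  have hWU : W ≤ U := fun u hu => Submodule.subset_span ⟨hW u hu, hfullW u hu⟩
  have hUperp : ∀ x ∈ U, ∀ y ∈ U, polar Q x y = 0 := by
    intro x hx
    induction hx using Submodule.span_induction with
    | mem a ha =>
      intro y hy
      induction hy using Submodule.span_induction with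
      | mem b hb => exact horth a b ha.1 hb.1 ha.2 hb.2
      | zero => exact polar_zero_right (Q := Q) a
      | add b c _ _ h1 h2 => rw [polar_add_right, h1, h2, add_zero]
      | smul c b _ h1 => rw [polar_smul_right', h1, mul_zero]
    | zero => exact fun y _ => polar_zero_left (Q := Q) y
    | add b c _ _ h1 h2 => exact fun y hy => by rw [polar_add_left, h1 y hy, h2 y hy, add_zero]
    | smul c b _ h1 => exact fun y hy => by rw [polar_smul_left', h1 y hy, mul_zero]
  have hUsing : TotSing Q U := by
    intro x hx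
    induction hx using Submodule.span_induction with
    | mem a ha => exact ha.1
    | zero => exact map_zero Q
    | add b c hb hc h1 h2 => rw [map_add_polar, h1, h2, hUperp b hb c hc]; ring
    | smul c b _ h1 => rw [qmap_smul, h1, mul_zero]
  have hstab : ∀ g ∈ X, ∀ u ∈ U, (g : (ι → F) ≃ₗ[F] (ι → F)) u ∈ U := by
    intro g hg u hu
    induction hu using Submodule.span_induction with
    | mem a ha => exact Submodule.subset_span ⟨by rw [O.map_app]; exact ha.1, ha.2.map hg⟩
    | zero => rw [map_zero]; exact U.zero_mem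
    | add b c _ _ h1 h2 => rw [map_add]; exact U.add_mem h1 h2
    | smul c b _ h1 => rw [map_smul]; exact U.smul_mem c h1
  obtain ⟨g₀, hg₀, hg₀S⟩ := hg
  obtain ⟨u, huU, huW⟩ : ∃ u ∈ U, u ∉ W := by
    by_contra hc
    push Not at hc
    refine hg₀S ((H96.mem_subspaceStabilizer_om Q W g₀).2 fun v => ⟨fun hv => hc _ (hstab g₀ hg₀ v (hWU hv)),
      fun hv => ?_⟩)
    have := hc _ (hstab g₀⁻¹ (X.inv_mem hg₀) _ (hWU hv))
    rwa [← mul_app, ← Subgroup.coe_mul, inv_mul_cancel, OneMemClass.coe_one, one_app] at this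
  obtain ⟨y, hyW, hy⟩ : ∃ y ∈ perp Q W, polar Q u y = 1 := by
    obtain ⟨y, hy, hy'⟩ : ∃ y ∈ perp Q W, polar Q u y ≠ 0 := by
      by_contra hc
      push Not at hc
      refine huW ?_
      rw [← hQ.perp_perp W, mem_perp']
      exact hc
    exact ⟨(polar Q u y)⁻¹ • y, (perp Q W).smul_mem _ hy, by rw [polar_smul_right', inv_mul_cancel₀ hy']⟩
  have huW' : u ∈ perp Q W := fun x hx => hUperp x (hWU hx) u huU
  set a := y + (-Q y) • u with ha
  have hQa : Q a = 0 := by
    rw [ha, map_add_polar, qmap_smul, polar_smul_right', polar_comm (⇑Q) y u, hy, hUsing u huU]; ring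
  have haW : a ∈ perp Q W := (perp Q W).add_mem hyW ((perp Q W).smul_mem _ huW')
  have hua : polar Q u a = 1 := by
    rw [ha, polar_add_right, polar_smul_right', polar_self', hy, hUsing u huU]; ring
  set Z := perp Q (W ⊔ Submodule.span F {u, a}) with hZ
  obtain ⟨b, hb, hQb⟩ : ∃ b ∈ Z, Q b ≠ 0 := by
    by_contra hc
    push Not at hc
    have hu0 : u ≠ 0 := fun h => huW (h ▸ W.zero_mem)
    have huZ : u ∉ Z := fun h => by
      have := h a (Submodule.mem_sup_right (Submodule.subset_span (by simp)))
      rw [polar_comm, hua] at this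
      exact one_ne_zero this
    have hT : TotSing Q (Z ⊔ Submodule.span F {u}) := by
      intro x hx
      obtain ⟨z, hz, s, hs, rfl⟩ := Submodule.mem_sup.1 hx
      obtain ⟨t, rfl⟩ := Submodule.mem_span_singleton.1 hs
      rw [map_add_polar, qmap_smul, hc z hz, hUsing u huU, polar_smul_right', polar_comm,
        hz u (Submodule.mem_sup_right (Submodule.subset_span (by simp)))]
      ring
    have hTW : TotSing Q (W ⊔ Submodule.span F {u}) := fun x hx =>
      hUsing x (sup_le hWU (by simpa using huU) hx)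
    have h1 := hT.two_mul_finrank_le hQ
    have h2 := hTW.two_mul_finrank_le hQ
    have h3 : finrank F ↥(Z ⊔ Submodule.span F {u}) = finrank F Z + 1 := by
      rw [← finrank_span_singleton (K := F) hu0, ← Submodule.finrank_sup_add_finrank_inf_eq Z,
        show Z ⊓ Submodule.span F {u} = ⊥ from ?_, finrank_bot, add_zero]
      refine eq_bot_iff.2 fun x ⟨hxZ, hxs⟩ => ?_
      obtain ⟨t, rfl⟩ := Submodule.mem_span_singleton.1 hxs
      rcases eq_or_ne t 0 with rfl | ht
      · simp
      · exact absurd ((Submodule.smul_mem_iff _ ht).1 hxZ) huZ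
    have h4 : finrank F ↥(W ⊔ Submodule.span F {u}) = finrank F W + 1 := by
      rw [← finrank_span_singleton (K := F) hu0, ← Submodule.finrank_sup_add_finrank_inf_eq W,
        show W ⊓ Submodule.span F {u} = ⊥ from ?_, finrank_bot, add_zero]
      refine eq_bot_iff.2 fun x ⟨hxW, hxs⟩ => ?_
      obtain ⟨t, rfl⟩ := Submodule.mem_span_singleton.1 hxs
      rcases eq_or_ne t 0 with rfl | ht
      · simp
      · exact absurd ((Submodule.smul_mem_iff _ ht).1 hxW) huW
    have h5 := hQ.finrank_add_perp (W ⊔ Submodule.span F {u, a})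
    rw [← hZ] at h5
    have h6 : finrank F ↥(W ⊔ Submodule.span F {u, a}) ≤ finrank F W + 2 := by
      have h7 := Submodule.finrank_add_le_finrank_add_finrank W (Submodule.span F {u, a})
      have h8 : finrank F ↥(Submodule.span F ({u, a} : Set (ι → F))) = 2 :=
        finrank_hyperbolic_plane (hUsing u huU) hQa hua
      omega
    exact hdim _ hTW (by omega) (by omega)
  have hab : polar Q a b = 0 := hb a (Submodule.mem_sup_right (Submodule.subset_span (by simp)))
  have hmem : sie a b hQa hab ∈ X := hX _ (sie_mem_commutator hQ hn hQa hab)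
    (om_sie_mem_stabilizer hQa hab fun x hx => by
      rw [show polar Q a x = 0 from (polar_comm (⇑Q) a x).trans (haW x hx),
        show polar Q b x = 0 from (polar_comm (⇑Q) b x).trans (hb x (Submodule.mem_sup_left hx))]
      simp)
  have := hUperp u huU _ (hstab _ hmem u huU)
  rw [sie_app, polar_sub_right, polar_add_right, polar_smul_right', polar_smul_right', polar_self',
    hUsing u huU, polar_comm (⇑Q) a u, hua, polar_comm (⇑Q) b u] at this
  apply hQb
  linear_combination -this

end Cfsg.Agent.H98.OrthMax
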