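import Cfsg.Agent.Orthogonal.Eichler
import Cfsg.Agent.Orthogonal.Frame
import Cfsg.Agent.Orthogonal.Simple

/-!
A subspace of a nondegenerate space that is invariant under its reflections and Eichler transformations is trivial,
apart from the hyperbolic planes over the fields with two and three elements.
-/

set_option autoImplicit false

namespace Cfsg.Agent.H98.OrthMax

open QuadraticMap Module Cfsg.Agent.Orthogonal

variable {F V : Type*} [Field F] [Fintype F] [AddCommGroup V] [Module F V] [FiniteDimensional F V]
  {Q : QuadraticForm F V}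

omit [Fintype F] [FiniteDimensional F V] in
theorem finrank_two_le_of_singular {W : Submodule F V} [FiniteDimensional F W] (hW : Nondeg (restr Q W)) {x : V}
    (hx : x ∈ W) (hx0 : x ≠ 0) (hQx : Q x = 0) : 2 ≤ finrank F W := by
  obtain ⟨f, hf, hxf⟩ := hW.exists_partner (u := ⟨x, hx⟩) (fun h => hx0 (congrArg Subtype.val h)) hQx
  rw [← finrank_hyperbolic_plane (Q := restr Q W) (u := ⟨x, hx⟩) hQx hf hxf]
  exact Submodule.finrank_le _

theorem eq_top_of_invariant (hQ : Nondeg Q) (T : Submodule F V) (hT : T ≠ ⊥)
    (hex : finrank F V = 2 → (∃ x, x ≠ 0 ∧ Q x = 0) → 4 ≤ Fintype.card F)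
    (hR : ∀ a b, Q a ≠ 0 → b ∈ T → b - ((Q a)⁻¹ * polar Q a b) • a ∈ T)
    (hE : ∀ x y b, Q x = 0 → polar Q x y = 0 → b ∈ T →
      b + (polar Q y b - Q y * polar Q x b) • x - polar Q x b • y ∈ T) : T = ⊤ := by
  by_contra htop
  -- anisotropic vectors are in `T` or orthogonal to it
  have hA : ∀ a b, Q a ≠ 0 → b ∈ T → a ∉ T → polar Q a b = 0 := by
    intro a b ha hb haT
    by_contra h
    refine haT ?_
    have := T.sub_mem hb (hR a b ha hb)
    rwa [sub_sub_cancel, Submodule.smul_mem_iff _ (mul_ne_zero (inv_ne_zero ha) h)] at this
  -- singular vectors outside `T` are orthogonal to none of its vectors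
  have hS : ∀ x b, Q x = 0 → b ∈ T → b ≠ 0 → x ∉ T → polar Q x b ≠ 0 := by
    intro x b hx hb hb0 hxT h
    obtain ⟨y, hy, hyb⟩ : ∃ y ∈ perp Q (Submodule.span F {x}), polar Q y b ≠ 0 := by
      by_contra hc
      push Not at hc
      have : b ∈ perp Q (perp Q (Submodule.span F {x})) := fun y hy => hc y hy
      rw [hQ.perp_perp, Submodule.mem_span_singleton] at this
      obtain ⟨c, rfl⟩ := this
      exact hxT ((Submodule.smul_mem_iff _ (fun hc => hb0 (by rw [hc, zero_smul]))).1 hb)
    rw [mem_perp_span_singleton] at hy
    refine hxT ?_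
    have := T.sub_mem (hE x y b hx hy hb) hb
    rwa [h, mul_zero, sub_zero, zero_smul, sub_zero, add_sub_cancel_left, Submodule.smul_mem_iff _ hyb] at this
  obtain ⟨b, hbT, hb0⟩ := (Submodule.ne_bot_iff T).1 hT
  by_cases hline : ∀ c ∈ T, c ∈ Submodule.span F ({b} : Set V)
  · have hTe : ∀ a, a ∉ Submodule.span F ({b} : Set V) → a ∉ T := fun a ha h => ha (hline a h)
    rcases eq_or_ne (Q b) 0 with hQb | hQb
    · obtain ⟨f, hf, hbf⟩ := hQ.exists_partner hb0 hQb
      have hQa : Q (b + f) ≠ 0 := by rw [map_add_polar, hQb, hf, hbf]; simp
      have hab : polar Q (b + f) b = 1 := by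
        rw [polar_add_left, polar_self', hQb, polar_comm (⇑Q) f b, hbf]; ring
      refine one_ne_zero (hab.symm.trans (hA _ _ hQa hbT (hTe _ fun h => ?_)))
      obtain ⟨c, hc⟩ := Submodule.mem_span_singleton.1 h
      rw [eq_sub_of_add_eq' hc.symm, polar_sub_right, polar_smul_right', polar_self', hQb] at hbf
      simp at hbf
    -- `b` is anisotropic
    have hsing : ∀ z, z ∉ Submodule.span F ({b} : Set V) → polar Q z b ≠ 0 → Q z = 0 := fun z hz h => by
      by_contra hQz
      exact h (hA z b hQz hbT (hTe z hz))
    by_cases h2 : (2 : F) = 0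
    · obtain ⟨z, hzb⟩ := hQ.exists_polar_eq hb0 1
      rw [polar_comm] at hzb
      have hzT : ∀ t : F, z + t • b ∉ Submodule.span F ({b} : Set V) := fun t h => by
        rw [Submodule.add_mem_iff_left _ (Submodule.smul_mem _ t (Submodule.mem_span_singleton_self b))] at h
        obtain ⟨c, rfl⟩ := Submodule.mem_span_singleton.1 h
        rw [polar_smul_left', polar_self', h2] at hzb
        simp at hzb
      have key : ∀ t : F, Q z + t ^ 2 * Q b + t = 0 := fun t => by
        have := hsing _ (hzT t) (by
          rw [polar_add_left, polar_smul_left', hzb, polar_self', h2]; simp)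
        rwa [map_add_polar, qmap_smul, polar_smul_right', hzb, mul_one] at this
      have hz : Q z = 0 := by simpa using key 0
      have hb1 : Q b = 1 := by
        have := key 1
        rw [hz] at this
        linear_combination this - h2
      by_cases hn : finrank F V = 2
      · have hz0 : z ≠ 0 := fun h => by simp [h] at hzb
        classical
        have h4 := hex hn ⟨z, hz0, hz⟩
        have : Fintype.card F ≤ 2 := by
          rw [← Finset.card_univ]
          refine (Finset.card_le_card (t := ({0, 1} : Finset F)) fun t _ => ?_).trans Finset.card_le_two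
          have := key t
          rw [hz, hb1] at this
          rcases eq_or_ne t 0 with rfl | ht
          · simp
          · have : t = 1 := mul_left_cancel₀ ht (by linear_combination this - t * h2)
            simp [this]
        omega
      set f := b + z with hfdef
      have hf : Q f = 0 := by
        rw [hfdef, map_add_polar, hb1, hz, polar_comm (⇑Q) b z, hzb]; linear_combination h2
      have hzf : polar Q z f = 1 := by rw [hfdef, polar_add_right, hzb, polar_self', hz]; ring
      have hW := hQ.nondeg_hyperbolic_perp hz hf hzf
      have hWr := hQ.finrank_hyperbolic_perp hz hf hzf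
      have hge := finrank_two_le_of_singular (W := ⊤) (Q := Q) (nondeg_restr_top hQ) (x := z) trivial
        (fun h => by simp [h] at hzb) hz
      rw [finrank_top] at hge
      have : Nontrivial (perp Q (Submodule.span F {z, f})) :=
        Module.finrank_pos_iff.1 (by omega : 0 < finrank F (perp Q (Submodule.span F {z, f})))
      obtain ⟨y₀, hy₀⟩ := exists_ne (0 : perp Q (Submodule.span F {z, f}))
      obtain ⟨y, hy⟩ := exists_anisotropic hW hy₀
      rw [restr_apply] at hy
      obtain ⟨hy1, hy2⟩ := (mem_perp_span_pair Q).1 y.2
      replace hy2 : polar Q b (y : V) = 0 := by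
        have h : polar Q (b + z) (y : V) = 0 := hy2
        rwa [polar_add_left, hy1, add_zero] at h
      have hzy : polar Q (z + (y : V)) b = 1 := by rw [polar_add_left, hzb, polar_comm, hy2, add_zero]
      refine hy ?_
      have := hsing (z + y) (fun h => ?_) (by rw [hzy]; exact one_ne_zero)
      · rwa [map_add_polar, hz, hy1, zero_add, add_zero] at this
      · obtain ⟨c, hc⟩ := Submodule.mem_span_singleton.1 h
        rw [← hc, polar_smul_left', polar_self', h2] at hzy
        simp at hzy
    · -- odd characteristic
      have hperp : ∀ z, polar Q z b = 0 → z ≠ 0 → ∀ t : F, t ≠ 0 → Q z + t ^ 2 * Q b = 0 := by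
        intro z hz hz0 t ht
        have := hsing (z + t • b) (fun h => ?_) (by
          rw [polar_add_left, hz, polar_smul_left', polar_self', zero_add]
          exact mul_ne_zero ht (mul_ne_zero h2 hQb))
        · rwa [map_add_polar, qmap_smul, polar_smul_right', hz, mul_zero, add_zero] at this
        · rw [Submodule.add_mem_iff_left _ (Submodule.smul_mem _ t (Submodule.mem_span_singleton_self b))] at h
          obtain ⟨c, rfl⟩ := Submodule.mem_span_singleton.1 h
          rw [polar_smul_left', polar_self'] at hz
          exact hz0 (by rw [(mul_eq_zero.1 hz).resolve_right (mul_ne_zero h2 hQb), zero_smul])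
      have hbW : Nondeg (restr Q (Submodule.span F ({b} : Set V))) := fun x hx => by
        obtain ⟨c, hc⟩ := Submodule.mem_span_singleton.1 x.2
        have h := hx ⟨b, Submodule.mem_span_singleton_self b⟩
        rw [polar_restr, ← hc, polar_smul_left', polar_self'] at h
        refine Subtype.ext ?_
        rw [← hc, (mul_eq_zero.1 h).resolve_right (mul_ne_zero h2 hQb), zero_smul]
        rfl
      have hP := hQ.nondeg_perp hbW
      have hPr := hQ.finrank_perp_singleton hb0
      have hnb : finrank F (perp Q (Submodule.span F ({b} : Set V))) ≠ 0 := fun h0 => by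
        refine htop (Submodule.eq_top_of_finrank_eq (le_antisymm (Submodule.finrank_le T) ?_))
        have : 0 < finrank F T := by
          rw [Nat.pos_iff_ne_zero, Ne, Submodule.finrank_eq_zero]; exact hT
        omega
      by_cases hn : 2 ≤ finrank F (perp Q (Submodule.span F ({b} : Set V)))
      · obtain ⟨z, hz⟩ := hP.exists_value hn (Q b)
        rw [restr_apply] at hz
        have hzb : polar Q (z : V) b = 0 := (mem_perp' Q).1 z.2 b (Submodule.mem_span_singleton_self b)
        have := hperp z hzb (fun h => hQb (by rw [← hz, h, map_zero])) 1 one_ne_zero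
        rw [hz] at this
        exact hQb ((mul_eq_zero.1 (show (2 : F) * Q b = 0 by linear_combination this)).resolve_left h2)
      · obtain ⟨z, hz, hz0⟩ := (Submodule.ne_bot_iff (perp Q (Submodule.span F ({b} : Set V)))).1 fun h => hnb (by
          rw [h, finrank_bot])
        have hzb : polar Q z b = 0 := (mem_perp' Q).1 hz b (Submodule.mem_span_singleton_self b)
        have h1 := hperp z hzb hz0 1 one_ne_zero
        have hu : Q (z + b) = 0 := by rw [map_add_polar, hzb, add_zero]; linear_combination h1
        classical
        have h4 := hex (by omega) ⟨z + b, fun h => hQb ((mul_eq_zero.1 (show (2 : F) * Q b = 0 by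
          rw [← polar_self', show polar Q b b = polar Q (z + b) b by rw [polar_add_left, hzb, zero_add],
            h, polar_zero_left])).resolve_left h2), hu⟩
        have : Fintype.card F ≤ 3 := by
          rw [← Finset.card_univ]
          refine (Finset.card_le_card (t := ({0, 1, -1} : Finset F)) fun t _ => ?_).trans Finset.card_le_three
          rcases eq_or_ne t 0 with rfl | ht
          · simp
          · have h3 := hperp z hzb hz0 t ht
            have : t ^ 2 = 1 := mul_right_cancel₀ hQb (by linear_combination h3 - h1)
            rcases sq_eq_one_iff.1 this with h | h <;> simp [h]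
        omega
  -- two independent vectors in `T`
  push Not at hline
  obtain ⟨b', hb'T, hb'⟩ := hline
  have hrT : 3 ≤ finrank F V := by
    have h1 : Submodule.span F ({b} : Set V) < T := lt_of_le_of_ne (by simpa using hbT) fun h => hb' (h ▸ hb'T)
    have := Submodule.finrank_lt_finrank_of_lt h1
    rw [finrank_span_singleton hb0] at this
    have := Submodule.finrank_lt (s := T) htop
    omega
  refine htop (span_singular hQ hrT T fun x hx => ?_)
  by_contra hxT
  set c := polar Q x b' • b - polar Q x b • b' with hc
  refine hS x c hx (T.sub_mem (T.smul_mem _ hbT) (T.smul_mem _ hb'T)) (fun h => ?_) hxT ?_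
  · refine hb' (Submodule.mem_span_singleton.2 ⟨polar Q x b' / polar Q x b, ?_⟩)
    rw [hc, sub_eq_zero] at h
    rw [div_eq_inv_mul, mul_smul, h, inv_smul_smul₀ (hS x b hx hbT hb0 hxT)]
  · rw [hc, polar_sub_right, polar_smul_right', polar_smul_right']; ring

end Cfsg.Agent.H98.OrthMax
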