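import Cfsg.Agent.H98.OrthMax.Point
import Cfsg.Agent.H98.OrthMax.Irred

/-!
Tools for stabilisers in Ω of nondegenerate subspaces.
-/

set_option autoImplicit false

namespace Cfsg.Agent.H98.OrthMax

open QuadraticMap Module Cfsg.Agent.Orthogonal

variable {F V : Type*} [Field F] [AddCommGroup V] [Module F V] [FiniteDimensional F V]
  {Q : QuadraticForm F V}

/-- An element mapping a subspace into itself stabilises it. -/
theorem stab_iff_of_le {W : Submodule F V} (g : O Q) (h : ∀ v ∈ W, (g : V ≃ₗ[F] V) v ∈ W) (v : V) :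
    v ∈ W ↔ (g : V ≃ₗ[F] V) v ∈ W := by
  refine ⟨h v, fun hv => ?_⟩
  have he : W.map ((g : V ≃ₗ[F] V) : V →ₗ[F] V) = W :=
    Submodule.eq_of_le_of_finrank_le (by rintro _ ⟨x, hx, rfl⟩; exact h x hx)
      (LinearEquiv.finrank_map_eq (g : V ≃ₗ[F] V) W).ge
  obtain ⟨x, hx, hxv⟩ := he.symm ▸ hv
  rwa [← (g : V ≃ₗ[F] V).injective hxv]

/-- An element stabilising a subspace stabilises its orthogonal. -/
theorem perp_invariant {W : Submodule F V} (g : O Q) (h : ∀ v ∈ W, (g : V ≃ₗ[F] V) v ∈ W) :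
    ∀ v ∈ perp Q W, (g : V ≃ₗ[F] V) v ∈ perp Q W := by
  intro v hv w hw
  obtain ⟨w', rfl⟩ := (g : V ≃ₗ[F] V).surjective w
  rw [O.polar_app]
  exact hv w' ((stab_iff_of_le g h w').2 hw)

omit [FiniteDimensional F V] in
/-- A reflection times a conjugate reflection is a commutator. -/
theorem rO_mul_conj_mem (g : O Q) (a : V) : rO Q a * rO Q ((g : V ≃ₗ[F] V) a) ∈ commutator (O Q) := by
  have h : rO Q a * rO Q ((g : V ≃ₗ[F] V) a) = rO Q a * g * (rO Q a)⁻¹ * g⁻¹ := by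
    rw [← conj_rO, rO_inv]
    group
  rw [h, ← commutatorElement_def, commutator_def]
  exact Subgroup.commutator_mem_commutator (Subgroup.mem_top _) (Subgroup.mem_top _)

theorem rO_mul_mem (hQ : Nondeg Q) {a c : V} (ha : Q a ≠ 0) (h : Q c = Q a) :
    rO Q a * rO Q c ∈ commutator (O Q) := by
  obtain ⟨g, hg⟩ := exists_map_vec hQ (v := a) (w := c) (fun h0 => ha (by rw [h0, map_zero]))
    (fun h0 => ha (by rw [← h, h0, map_zero])) h
  exact hg ▸ rO_mul_conj_mem g a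

/-- A vector of given norm orthogonal to a hyperbolic pair of `U`. -/
theorem exists_mid [Finite F] {U : Submodule F V} (hU : Nondeg (restr Q U)) (hd : 4 ≤ finrank F U) {u f : V}
    (huU : u ∈ U) (hfU : f ∈ U) (hu : Q u = 0) (hf : Q f = 0) (huf : polar Q u f = 1) (c : F) :
    ∃ z ∈ U, polar Q u z = 0 ∧ polar Q f z = 0 ∧ Q z = c := by
  have h1 : polar (restr Q U) ⟨u, huU⟩ ⟨f, hfU⟩ = 1 := by rw [polar_restr]; exact huf
  have hP := hU.nondeg_hyperbolic_perp (u := ⟨u, huU⟩) (f := ⟨f, hfU⟩) hu hf h1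
  have hr := hU.finrank_hyperbolic_perp (u := ⟨u, huU⟩) (f := ⟨f, hfU⟩) hu hf h1
  obtain ⟨z, hz⟩ := hP.exists_value (by omega) c
  obtain ⟨hz1, hz2⟩ := (mem_perp_span_pair _).1 z.2
  rw [polar_restr] at hz1 hz2
  exact ⟨_, z.1.2, hz1, hz2, hz⟩

theorem exists_mid_singular [Finite F] {U : Submodule F V} (hU : Nondeg (restr Q U)) (hd : 5 ≤ finrank F U)
    {u f : V} (huU : u ∈ U) (hfU : f ∈ U) (hu : Q u = 0) (hf : Q f = 0) (huf : polar Q u f = 1) :
    ∃ z ∈ U, z ≠ 0 ∧ polar Q u z = 0 ∧ polar Q f z = 0 ∧ Q z = 0 := by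
  have h1 : polar (restr Q U) ⟨u, huU⟩ ⟨f, hfU⟩ = 1 := by rw [polar_restr]; exact huf
  have hP := hU.nondeg_hyperbolic_perp (u := ⟨u, huU⟩) (f := ⟨f, hfU⟩) hu hf h1
  have hr := hU.finrank_hyperbolic_perp (u := ⟨u, huU⟩) (f := ⟨f, hfU⟩) hu hf h1
  obtain ⟨z, hz0, hz⟩ := hP.exists_singular (by omega)
  obtain ⟨hz1, hz2⟩ := (mem_perp_span_pair _).1 z.2
  rw [polar_restr] at hz1 hz2
  exact ⟨_, z.1.2, fun h => hz0 (Subtype.ext (Subtype.ext h)), hz1, hz2, hz⟩

/-- An element of Ω multiplying `u` by `a` and fixing everything orthogonal to `U`. -/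
theorem exists_torus [Finite F] (hQ : Nondeg Q) {U : Submodule F V} (hU : Nondeg (restr Q U))
    (hd : 4 ≤ finrank F U) {u f : V} (huU : u ∈ U) (hfU : f ∈ U) (hu : Q u = 0) (hf : Q f = 0)
    (huf : polar Q u f = 1) {a : F} (ha : a ≠ 0) :
    ∃ t ∈ commutator (O Q), (t : V ≃ₗ[F] V) u = a • u ∧ ∀ v ∈ perp Q U, (t : V ≃ₗ[F] V) v = v := by
  obtain ⟨c, hcU, hcu, hcf, hc⟩ := exists_mid hU hd huU hfU hu hf huf 1
  obtain ⟨c', hc'U, hc'u, -, hc'⟩ := exists_mid hU hd huU hfU hu hf huf a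
  have hfu : polar Q f u = 1 := by rw [polar_comm]; exact huf
  have h1 : Q (u + f) = 1 := by rw [map_add_polar, hu, hf, huf]; ring
  have h2 : Q (u + a • f) = a := by rw [map_add_polar, qmap_smul, polar_smul_right', hu, hf, huf]; ring
  refine ⟨rO Q (u + f) * rO Q c * (rO Q (u + a • f) * rO Q c'),
    mul_mem (rO_mul_mem hQ (by rw [h1]; exact one_ne_zero) (by rw [hc, h1]))
      (rO_mul_mem hQ (by rw [h2]; exact ha) (by rw [hc', h2])), ?_, fun v hv => ?_⟩
  · have e1 : (rO Q c' : V ≃ₗ[F] V) u = u := rO_fix (by rw [polar_comm]; exact hc'u)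
    have e2 : (rO Q (u + a • f) : V ≃ₗ[F] V) u = -(a • f) := by
      rw [rO_app, h2, polar_add_left, polar_smul_left', polar_self', hu, hfu, mul_zero, zero_add, mul_one,
        inv_mul_cancel₀ ha, one_smul]
      abel
    have e3 : (rO Q c : V ≃ₗ[F] V) (a • f) = a • f :=
      rO_fix (by rw [polar_smul_right', polar_comm, hcf, mul_zero])
    have e4 : (rO Q (u + f) : V ≃ₗ[F] V) f = -u := by
      rw [rO_app, h1, polar_add_left, huf, polar_self', hf, mul_zero, add_zero, inv_one, one_mul, one_smul]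
      abel
    simp only [Subgroup.coe_mul, mul_app, e1, e2, map_neg, e3]
    rw [map_smul, e4, smul_neg, neg_neg]
  · have hfix : ∀ w ∈ U, (rO Q w : V ≃ₗ[F] V) v = v := fun w hw => rO_fix (hv w hw)
    simp only [Subgroup.coe_mul, mul_app, hfix _ hcU, hfix _ hc'U, hfix _ (U.add_mem huU hfU),
      hfix _ (U.add_mem huU (U.smul_mem a hfU))]

omit [FiniteDimensional F V] in
/-- A totally singular plane whose map sends `U` into itself lies in `U` or in its orthogonal. -/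
theorem mem_or_mem_of_plane {U W : Submodule F V} (hd : U ⊓ W = ⊥) (hW : perp Q U = W) {a b : V}
    (hab : ∀ c : F, b ≠ c • a) (h : ∀ x ∈ U, polar Q b x • a - polar Q a x • b ∈ U) : a ∈ U ∨ a ∈ W := by
  by_contra hc
  push Not at hc
  obtain ⟨haU, haW⟩ := hc
  obtain ⟨x₀, hx₀U, hx₀⟩ : ∃ x ∈ U, polar Q a x ≠ 0 := by
    by_contra h0
    push Not at h0
    exact haW (hW ▸ (mem_perp' Q).2 h0)
  set x := (polar Q a x₀)⁻¹ • x₀ with hx
  have hax : polar Q a x = 1 := by rw [hx, polar_smul_right', inv_mul_cancel₀ hx₀]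
  have hb₀ := h x (U.smul_mem _ hx₀U)
  rw [hax, one_smul] at hb₀
  set β := polar Q b x
  have hb : ∀ y ∈ U, polar Q (β • a - b) y = 0 := by
    intro y hy
    by_contra hne
    refine haU ((Submodule.smul_mem_iff _ hne).1 ?_)
    have := U.sub_mem (U.smul_mem (polar Q a y) hb₀) (h y hy)
    convert this using 1
    rw [polar_sub_left, polar_smul_left']
    module
  have : β • a - b ∈ U ⊓ W := ⟨hb₀, hW ▸ (mem_perp' Q).2 hb⟩
  rw [hd, Submodule.mem_bot, sub_eq_zero] at this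
  exact hab β this.symm

end Cfsg.Agent.H98.OrthMax
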