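import Cfsg.Agent.H98.OrthMax.Nondeg

/-!
An orthogonal sum of two isometric nondegenerate spaces of even dimension is of plus type.
-/

set_option autoImplicit false

namespace Cfsg.Agent.H98.OrthMax

open QuadraticMap Module Cfsg.Agent.Orthogonal

variable {F V : Type*} [Field F] [Finite F] [AddCommGroup V] [Module F V] [FiniteDimensional F V]
  {Q : QuadraticForm F V}

omit [Finite F] [FiniteDimensional F V] in
theorem totSing_sup {A B : Submodule F V} (hA : TotSing Q A) (hB : TotSing Q B)
    (h : ∀ a ∈ A, ∀ b ∈ B, polar Q a b = 0) : TotSing Q (A ⊔ B) := by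
  intro x hx
  obtain ⟨a, ha, b, hb, rfl⟩ := Submodule.mem_sup.1 hx
  rw [map_add_polar, hA a ha, hB b hb, h a ha b hb]
  ring

/-- A similitude of factor `-1` of an anisotropic plane or of the zero space. -/
theorem exists_neg_similitude (h2 : (2 : F) ≠ 0) {P : Submodule F V} (hP : Nondeg (restr Q P))
    (hd : finrank F P = 0 ∨ finrank F P = 2) (hA : Aniso Q P) :
    ∃ θ : V →ₗ[F] V, ∀ p ∈ P, θ p ∈ P ∧ Q (θ p) = -Q p := by
  rcases hd with hd | hd
  · refine ⟨0, fun p hp => ?_⟩
    rw [(Submodule.finrank_eq_zero.1 hd), Submodule.mem_bot] at hp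
    simp [hp]
  obtain ⟨a, haP, ha0⟩ := (Submodule.ne_bot_iff P).1 fun h => by rw [h, finrank_bot] at hd; omega
  have hla : Q a ≠ 0 := fun h => ha0 (hA a haP h)
  obtain ⟨y, hy, hya⟩ : ∃ y ∈ P, y ∉ Submodule.span F ({a} : Set V) := by
    by_contra hc
    push Not at hc
    have := Submodule.finrank_mono (show P ≤ Submodule.span F ({a} : Set V) from hc)
    rw [hd, finrank_span_singleton ha0] at this
    omega
  set b := y - (polar Q a y / polar Q a a) • a with hb
  have hbP : b ∈ P := P.sub_mem hy (P.smul_mem _ haP)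
  have haa : polar Q a a ≠ 0 := by rw [polar_self']; exact mul_ne_zero h2 hla
  have hab : polar Q a b = 0 := by rw [hb, polar_sub_right, polar_smul_right', div_mul_cancel₀ _ haa, sub_self]
  have hb0 : b ≠ 0 := fun h => hya (Submodule.mem_span_singleton.2 ⟨_, (sub_eq_zero.1 h).symm⟩)
  have hmb : Q b ≠ 0 := fun h => hb0 (hA b hbP h)
  clear_value b
  have hspan : Submodule.span F ({a, b} : Set V) = P := by
    refine Submodule.eq_of_le_of_finrank_le (Submodule.span_le.2 (by rintro x (rfl | rfl) <;> assumption)) ?_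
    rw [hd]
    have hli : LinearIndependent F ![a, b] := by
      rw [LinearIndependent.pair_iff]
      intro s t hst
      have e1 := congrArg (polar Q a) hst
      rw [polar_add_right, polar_smul_right', polar_smul_right', hab, mul_zero, add_zero, polar_zero_right] at e1
      have hs := (mul_eq_zero.1 e1).resolve_right haa
      rw [hs, zero_smul, zero_add] at hst
      exact ⟨hs, (smul_eq_zero.1 hst).resolve_right hb0⟩
    have := finrank_span_eq_card hli
    rw [Matrix.range_cons, Matrix.range_cons, Matrix.range_empty, Set.union_empty, Set.singleton_union,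
      Fintype.card_fin] at this
    rw [this]
  obtain ⟨r, s, hrs⟩ := exists_sq_add_sq hla hmb (-Q a)
  refine ⟨(Q.polarBilin a).smulRight ((2 * Q a)⁻¹ • (r • a + s • b)) +
    (Q.polarBilin b).smulRight ((2 * Q b)⁻¹ • ((-(Q b * s / Q a)) • a + r • b)), fun p hp => ?_⟩
  rw [← hspan] at hp
  obtain ⟨α, β, rfl⟩ := Submodule.mem_span_pair.1 hp
  have hba : polar Q b a = 0 := by rw [polar_comm]; exact hab
  simp only [LinearMap.add_apply, LinearMap.smulRight_apply, polarBilin_apply', polar_add_right,
    polar_smul_right', hab, hba, polar_self', mul_zero, add_zero, zero_add]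
  refine ⟨P.add_mem (P.smul_mem _ (P.smul_mem _ (P.add_mem (P.smul_mem _ haP) (P.smul_mem _ hbP))))
    (P.smul_mem _ (P.smul_mem _ (P.add_mem (P.smul_mem _ haP) (P.smul_mem _ hbP)))), ?_⟩
  simp only [map_add_polar, qmap_smul, polar_add_left, polar_add_right, polar_smul_left', polar_smul_right', hab, hba,
    polar_self']
  field_simp
  linear_combination (α ^ 2 * Q a + β ^ 2 * Q b) * hrs

/-- Isometric orthogonal halves of even dimension give a totally singular half. -/
theorem exists_totSing_of_halves (hQ : Nondeg Q) {W : Submodule F V} (hW : Nondeg (restr Q W))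
    (hk : 2 * finrank F W = finrank F V) (hev : Even (finrank F W)) (g : O Q)
    (hg : ∀ v ∈ perp Q W, (g : V ≃ₗ[F] V) v ∈ W) :
    ∃ T : Submodule F V, TotSing Q T ∧ 2 * finrank F T = finrank F V := by
  set U := perp Q W with hUdef
  have hU : Nondeg (restr Q U) := hQ.nondeg_perp hW
  have hUd : finrank F U = finrank F W := by have := hQ.finrank_add_perp W; rw [← hUdef] at this; omega
  have hUW : ∀ {u v : V}, u ∈ U → v ∈ W → polar Q u v = 0 := fun hu hv => by rw [polar_comm]; exact hu _ hv
  have hdisj : U ⊓ W = ⊥ := by rw [inf_comm]; exact (nondeg_restr_iff W).1 hW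
  have hinj : Function.Injective ((g : V ≃ₗ[F] V) : V →ₗ[F] V) := (g : V ≃ₗ[F] V).injective
  -- totally singular graphs
  have graph : ∀ (A : Submodule F V) (θ : V →ₗ[F] V), A ≤ U → (∀ p ∈ A, θ p ∈ A ∧ Q (θ p) = -Q p) →
      ∃ D : Submodule F V, TotSing Q D ∧ A ≤ D ⊔ W ∧ D ≤ A ⊔ A.map ((g : V ≃ₗ[F] V) : V →ₗ[F] V) := by
    intro A θ hAU hθ
    refine ⟨A.map (LinearMap.id + ((g : V ≃ₗ[F] V) : V →ₗ[F] V) ∘ₗ θ), ?_, fun p hp => ?_, ?_⟩
    · rintro _ ⟨p, hp, rfl⟩
      rw [LinearMap.add_apply, LinearMap.id_apply, LinearMap.comp_apply, LinearEquiv.coe_coe, map_add_polar,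
        O.map_app, (hθ p hp).2, hUW (hAU hp) (hg _ (hAU (hθ p hp).1))]
      ring
    · rw [show p = (p + (g : V ≃ₗ[F] V) (θ p)) + -(g : V ≃ₗ[F] V) (θ p) by abel]
      exact Submodule.add_mem _ (Submodule.mem_sup_left ⟨p, hp, rfl⟩)
        (Submodule.mem_sup_right (W.neg_mem (hg _ (hAU (hθ p hp).1))))
    · rintro _ ⟨p, hp, rfl⟩
      exact Submodule.add_mem _ (Submodule.mem_sup_left hp) (Submodule.mem_sup_right ⟨_, (hθ p hp).1, rfl⟩)
  have fin : ∀ T : Submodule F V, TotSing Q T → finrank F W ≤ finrank F T →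
      ∃ T : Submodule F V, TotSing Q T ∧ 2 * finrank F T = finrank F V := fun T hT hle =>
    ⟨T, hT, le_antisymm (hT.two_mul_finrank_le hQ) (by omega)⟩
  by_cases h2 : (2 : F) = 0
  · obtain ⟨D, hD, hUD, -⟩ := graph U LinearMap.id le_rfl fun p hp => ⟨hp, by
      rw [LinearMap.id_apply]; linear_combination Q p * h2⟩
    refine fin D hD ?_
    have h1 := Submodule.finrank_mono (sup_le hUD le_sup_right)
    have h3 := Submodule.finrank_sup_add_finrank_inf_eq U W
    rw [hdisj, finrank_bot] at h3
    have h4 := Submodule.finrank_add_le_finrank_add_finrank D W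
    omega
  obtain ⟨j, e, f, hef, hker⟩ := hU.exists_frame
  have hkn := hef.nondeg_kernel hU
  have hkd := hef.finrank_kernel hU
  have hk2 := finrank_le_two_of_aniso hkn hker
  set A := (Submodule.span F (Set.range e)).map U.subtype with hA
  set P := (IsFrame.kernel (restr Q U) e f).map U.subtype with hP
  have hPU : P ≤ U := Submodule.map_subtype_le _ _
  have hAU : A ≤ U := Submodule.map_subtype_le _ _
  have hPn : Nondeg (restr Q P) := by
    intro x hx
    obtain ⟨x', hx', hxe⟩ := x.2
    have := hkn ⟨x', hx'⟩ fun y => by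
      have h := hx ⟨_, ⟨(y : U), y.2, rfl⟩⟩
      rw [polar_restr] at h
      rw [polar_restr, polar_restr]
      rw [← hxe] at h
      exact h
    exact Subtype.ext (by rw [← hxe, show x' = 0 from congrArg Subtype.val this]; rfl)
  have hPA : Aniso Q P := by
    rintro _ ⟨x', hx', rfl⟩ h
    rw [hker x' hx' h, map_zero]
  have hPd : finrank F P = finrank F (IsFrame.kernel (restr Q U) e f) :=
    (Submodule.equivMapOfInjective _ U.injective_subtype _).finrank_eq.symm
  obtain ⟨θ, hθ⟩ := exists_neg_similitude h2 hPn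
    (by obtain ⟨i, hi⟩ := hev; rw [hPd]; omega) hPA
  obtain ⟨D, hD, hPD, hDle⟩ := graph P θ hPU hθ
  have hAsing : TotSing Q A := by
    rintro _ ⟨x', hx', rfl⟩
    have horth : ∀ p ∈ Submodule.span F (Set.range e), ∀ i, polar (restr Q U) p (e i) = 0 := by
      intro p hp i
      induction hp using Submodule.span_induction with
      | mem q hq => obtain ⟨l, rfl⟩ := hq; exact hef.ee l i
      | zero => exact polar_zero_left (Q := restr Q U) (e i)
      | add p q _ _ h1 h2 => rw [polar_add_left, h1, h2, add_zero]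
      | smul c p _ h1 => rw [polar_smul_left', h1, mul_zero]
    show restr Q U x' = 0
    induction hx' using Submodule.span_induction with
    | mem q hq => obtain ⟨l, rfl⟩ := hq; exact hef.qe l
    | zero => exact map_zero _
    | add p q hp hq h1 h2 =>
      have hpq : polar (restr Q U) p q = 0 := by
        clear h2
        induction hq using Submodule.span_induction with
        | mem z hz => obtain ⟨l, rfl⟩ := hz; exact horth p hp l
        | zero => exact polar_zero_right (Q := restr Q U) p
        | add a b _ _ i1 i2 => rw [polar_add_right, i1, i2, add_zero]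
        | smul c a _ i1 => rw [polar_smul_right', i1, mul_zero]
      rw [map_add_polar, h1, h2, hpq]; ring
    | smul c p _ h1 => rw [qmap_smul, h1, mul_zero]
  have hsub : Submodule.span F (Set.range e) ≤ IsFrame.hspan (F := F) e f :=
    Submodule.span_mono fun x ⟨i, hi⟩ => ⟨Sum.inl i, hi⟩
  have hAP : ∀ a ∈ A, ∀ p ∈ P, polar Q a p = 0 := by
    rintro _ ⟨a', ha', rfl⟩ _ ⟨p', hp', rfl⟩
    rw [U.subtype_apply, U.subtype_apply, ← polar_restr]
    exact hp' a' (hsub ha')
  set gA := A.map ((g : V ≃ₗ[F] V) : V →ₗ[F] V) with hgA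
  have hgAsing : TotSing Q gA := hAsing.map g
  have hgAW : gA ≤ W := by
    rintro _ ⟨a, ha, rfl⟩
    exact hg a (hAU ha)
  have hT : TotSing Q (A ⊔ gA ⊔ D) := by
    refine totSing_sup (totSing_sup hAsing hgAsing fun a ha b hb => hUW (hAU ha) (hgAW hb)) hD ?_
    intro x hx d hd
    obtain ⟨a, ha, b, hb, rfl⟩ := Submodule.mem_sup.1 hx
    obtain ⟨p, hp, q, hq, rfl⟩ := Submodule.mem_sup.1 (hDle hd)
    obtain ⟨b', hb', rfl⟩ := hb
    obtain ⟨q', hq', rfl⟩ := hq
    simp only [polar_add_left, polar_add_right, LinearEquiv.coe_coe, O.polar_app, hAP a ha p hp, hAP b' hb' q' hq',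
      hUW (hAU ha) (hg _ (hPU hq')), polar_comm (⇑Q) ((g : V ≃ₗ[F] V) b') p, hUW (hPU hp) (hg _ (hAU hb'))]
    ring
  refine fin _ hT ?_
  have hAd : finrank F A = j := by
    rw [hA, ← (Submodule.equivMapOfInjective _ U.injective_subtype _).finrank_eq,
      finrank_span_eq_card (hef.linearIndependent.comp Sum.inl Sum.inl_injective |> fun h => by simpa using h),
      Fintype.card_fin]
  have hgAd : finrank F gA = j := by
    rw [hgA, ← (Submodule.equivMapOfInjective _ hinj _).finrank_eq, hAd]
  have h1 : finrank F ↥(A ⊔ P) = j + finrank F P := by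
    have := Submodule.finrank_sup_add_finrank_inf_eq A P
    rw [show A ⊓ P = ⊥ from ?_, finrank_bot, hAd] at this
    · omega
    · rw [hA, hP, ← Submodule.map_inf _ U.injective_subtype]
      refine (congrArg _ (eq_bot_iff.2 fun x hx => ?_)).trans (Submodule.map_bot _)
      exact (hef.isCompl_kernel hU).inf_eq_bot ▸
        ⟨hsub hx.1, hx.2⟩
  have h3 : finrank F ↥(A ⊔ P ⊔ W) = finrank F ↥(A ⊔ P) + finrank F W := by
    have := Submodule.finrank_sup_add_finrank_inf_eq (A ⊔ P) W
    rw [show (A ⊔ P) ⊓ W = ⊥ from eq_bot_iff.2 ((inf_le_inf_right W (sup_le hAU hPU)).trans hdisj.le),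
      finrank_bot] at this
    omega
  have h4 := Submodule.finrank_mono
    (show A ⊔ P ⊔ W ≤ (A ⊔ gA ⊔ D) ⊔ W from sup_le (sup_le ((le_sup_left.trans le_sup_left).trans le_sup_left)
      (hPD.trans (sup_le_sup_right le_sup_right W))) le_sup_right)
  have h5 := Submodule.finrank_sup_add_finrank_inf_eq (A ⊔ gA ⊔ D) W
  have h6 := Submodule.finrank_mono (show gA ≤ (A ⊔ gA ⊔ D) ⊓ W from le_inf (le_sup_right.trans le_sup_left) hgAW)
  rw [hgAd] at h6
  omega

end Cfsg.Agent.H98.OrthMax
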