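import Cfsg.Agent.H98.OrthMax.NondegAux

/-!
Stabilisers in Ω of polarisations: two complementary totally singular subspaces of even dimension.
-/

set_option autoImplicit false

namespace Cfsg.Agent.H98.OrthMax

open QuadraticMap Module Cfsg.Agent.Orthogonal

section Abstract

variable {F V : Type*} [Field F] [Finite F] [AddCommGroup V] [Module F V] [FiniteDimensional F V]
  {Q : QuadraticForm F V} {X : Subgroup (O Q)}

variable (Q) in
/-- Two complementary totally singular subspaces. -/
structure Polarised (A B : Submodule F V) : Prop where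
  sA : TotSing Q A
  sB : TotSing Q B
  compl : IsCompl A B

namespace Polarised

variable {A B : Submodule F V}

omit [Finite F] [FiniteDimensional F V] in
theorem symm (h : Polarised Q A B) : Polarised Q B A := ⟨h.sB, h.sA, h.compl.symm⟩

omit [Finite F] [FiniteDimensional F V] in
theorem dec (h : Polarised Q A B) (z : V) : ∃ p ∈ A, ∃ q ∈ B, z = p + q := by
  obtain ⟨p, hp, q, hq, hpq⟩ := Submodule.mem_sup.1 (h.compl.sup_eq_top ▸ Submodule.mem_top : z ∈ A ⊔ B)
  exact ⟨p, hp, q, hq, hpq.symm⟩

omit [Finite F] [FiniteDimensional F V] in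
theorem eq_zero (h : Polarised Q A B) {x : V} (hA : x ∈ A) (hB : x ∈ B) : x = 0 :=
  (Submodule.mem_bot F).1 (h.compl.inf_eq_bot ▸ ⟨hA, hB⟩)

omit [Finite F] in
/-- A vector of `A` outside `S ≤ A` pairs nontrivially with some vector of `B` orthogonal to `S`. -/
theorem exists_coord (h : Polarised Q A B) (hQ : Nondeg Q) {S : Submodule F V} (hS : S ≤ A) {e : V} (he : e ∈ A)
    (heS : e ∉ S) : ∃ z ∈ B, (∀ s ∈ S, polar Q s z = 0) ∧ polar Q e z = 1 := by
  obtain ⟨y, hy, hey⟩ : ∃ y ∈ perp Q S, polar Q e y ≠ 0 := by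
    by_contra hc
    push Not at hc
    exact heS (hQ.perp_perp S ▸ (mem_perp' Q).2 hc)
  obtain ⟨p, hp, q, hq, rfl⟩ := h.dec y
  rw [polar_add_right, h.sA.polar_eq he hp, zero_add] at hey
  refine ⟨(polar Q e q)⁻¹ • q, B.smul_mem _ hq, fun s hs => ?_, by rw [polar_smul_right', inv_mul_cancel₀ hey]⟩
  have := hy s hs
  rw [polar_add_right, h.sA.polar_eq (hS hs) hp, zero_add] at this
  rw [polar_smul_right', this, mul_zero]

omit [Finite F] [FiniteDimensional F V] in
theorem sie_maps (h : Polarised Q A B) {a b : V} (ha : a ∈ A) (hb : b ∈ B) (hQa : Q a = 0)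
    (hab : polar Q a b = 0) :
    (∀ x ∈ A, (sie a b hQa hab : V ≃ₗ[F] V) x = x + polar Q b x • a) ∧
      ∀ x ∈ B, (sie a b hQa hab : V ≃ₗ[F] V) x = x - polar Q a x • b := by
  refine ⟨fun x hx => ?_, fun x hx => ?_⟩
  · rw [sie_app, h.sA.polar_eq ha hx]; simp
  · rw [sie_app, h.sB b hb, h.sB.polar_eq hb hx]; simp

omit [Finite F] in
theorem exists_full (h : Polarised Q A B) (hQ : Nondeg Q) (hk : 5 ≤ finrank F A)
    (hmix : ∀ a b (hQa : Q a = 0) (hab : polar Q a b = 0), a ∈ A → b ∈ B → sie a b hQa hab ∈ X)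
    {c d : V} (hQc : Q c = 0) (hcd : polar Q c d = 0) (hτ : sie c d hQc hcd ∈ X)
    (hmove : ∃ x ∈ B, (sie c d hQc hcd : V ≃ₗ[F] V) x ∉ B) :
    ∃ a ∈ A, a ≠ 0 ∧ Full X a := by
  set τ := (sie c d hQc hcd : V ≃ₗ[F] V) with hτdef
  -- the vectors of `A` fixed by the given element
  set A₀ := A ⊓ perp Q (Submodule.span F {c, d}) with hA₀
  have hA₀3 : 3 ≤ finrank F A₀ := by
    have h1 := hQ.finrank_add_perp (Submodule.span F {c, d})
    have h2 : finrank F (Submodule.span F ({c, d} : Set V)) ≤ 2 := by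
      classical
      rw [show ({c, d} : Set V) = ↑({c, d} : Finset V) from by simp]
      exact (finrank_span_finset_le_card _).trans Finset.card_le_two
    have h3 := Submodule.finrank_sup_add_finrank_inf_eq A (perp Q (Submodule.span F {c, d}))
    have h4 := Submodule.finrank_le (A ⊔ perp Q (Submodule.span F {c, d}))
    rw [← hA₀] at h3
    omega
  have hfix : ∀ a ∈ A₀, τ a = a := fun a ha => by
    obtain ⟨h1, h2⟩ := (mem_perp_span_pair Q).1 ha.2
    exact sie_fix' hQc hcd h1 h2
  obtain ⟨a, haA₀, b, hb, ha00, hab, p, hp, q, hq, hpq, hpa⟩ : ∃ a ∈ A₀, ∃ b ∈ B, a ≠ 0 ∧ polar Q a b = 0 ∧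
      ∃ p ∈ A, ∃ q ∈ B, τ b = p + q ∧ p ∉ Submodule.span F ({a} : Set V) := by
    by_contra hc
    push Not at hc
    -- the `A`-component of the images of `B` vanishes
    have hz : ∀ a a', a ≠ 0 → a ∈ A₀ → a' ∈ A₀ → a' ∉ Submodule.span F ({a} : Set V) →
        ∀ b ∈ B, polar Q a b = 0 → polar Q a' b = 0 → τ b ∈ B := by
      intro a a' ha00 ha ha' hne b hb h1 h2
      obtain ⟨p, hp, q, hq, hpq⟩ := h.dec (τ b)
      have e1 := hc a ha b hb ha00 h1 p hp q hq hpq
      have ha'00 : a' ≠ 0 := fun e => hne (e ▸ Submodule.zero_mem _)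
      have e2 := hc a' ha' b hb ha'00 h2 p hp q hq hpq
      obtain ⟨s, rfl⟩ := Submodule.mem_span_singleton.1 e1
      rcases eq_or_ne s 0 with rfl | hs
      · rw [hpq, zero_smul, zero_add]; exact hq
      obtain ⟨r, hr⟩ := Submodule.mem_span_singleton.1 e2
      rcases eq_or_ne r 0 with rfl | ha0
      · rw [hpq, ← hr, zero_smul, zero_add]; exact hq
      exact absurd (Submodule.mem_span_singleton.2 ⟨r⁻¹ * s, by rw [mul_smul, ← hr, inv_smul_smul₀ ha0]⟩) hne
    obtain ⟨x, hx, hxτ⟩ := hmove
    obtain ⟨a, ha, ha0⟩ := (Submodule.ne_bot_iff A₀).1 fun h0 => by rw [h0, finrank_bot] at hA₀3; omega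
    obtain ⟨a', ha', ha'a⟩ : ∃ a' ∈ A₀, a' ∉ Submodule.span F ({a} : Set V) := by
      by_contra hc'
      push Not at hc'
      have := Submodule.finrank_mono (show A₀ ≤ Submodule.span F ({a} : Set V) from hc')
      rw [finrank_span_singleton ha0] at this
      omega
    obtain ⟨a'', ha'', ha''a⟩ : ∃ a'' ∈ A₀, a'' ∉ Submodule.span F ({a, a'} : Set V) := by
      by_contra hc'
      push Not at hc'
      have := Submodule.finrank_mono (show A₀ ≤ Submodule.span F ({a, a'} : Set V) from hc')
      classical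
      have h2 : finrank F (Submodule.span F ({a, a'} : Set V)) ≤ 2 := by
        rw [show ({a, a'} : Set V) = ↑({a, a'} : Finset V) from by simp]
        exact (finrank_span_finset_le_card _).trans Finset.card_le_two
      omega
    -- decompose along the hyperplanes
    have key : ∀ a a' a'', a ≠ 0 → a ∈ A₀ → a' ∈ A₀ → a'' ∈ A₀ → a' ∉ Submodule.span F ({a, a''} : Set V) →
        a'' ∉ Submodule.span F ({a} : Set V) → ∀ b ∈ B, polar Q a b = 0 → τ b ∈ B := by
      intro a a' a'' ha00 ha ha' ha'' hn1 hn2 b hb hab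
      obtain ⟨z, hz', hzs, hz1⟩ := h.exists_coord hQ (S := Submodule.span F {a, a''})
        (Submodule.span_le.2 (by rintro y (rfl | rfl); exacts [ha.1, ha''.1])) ha'.1 hn1
      have hza : polar Q a z = 0 := hzs a (Submodule.subset_span (by simp))
      have hza'' : polar Q a'' z = 0 := hzs a'' (Submodule.subset_span (by simp))
      have e1 := hz a a' ha00 ha ha' (fun h0 => hn1 (Submodule.span_mono (by simp) h0))
        (b - polar Q a' b • z) (B.sub_mem hb (B.smul_mem _ hz'))
        (by rw [polar_sub_right, polar_smul_right', hab, hza]; ring)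
        (by rw [polar_sub_right, polar_smul_right', hz1]; ring)
      have e2 := hz a a'' ha00 ha ha'' hn2 (polar Q a' b • z) (B.smul_mem _ hz')
        (by rw [polar_smul_right', hza, mul_zero]) (by rw [polar_smul_right', hza'', mul_zero])
      have := B.add_mem e1 e2
      rwa [← map_add, sub_add_cancel] at this
    obtain ⟨z, hz', hzs, hz1⟩ := h.exists_coord hQ (S := Submodule.span F {a'})
      (by simpa using ha'.1) ha.1 (fun h0 => ha'a (by
        obtain ⟨s, hs⟩ := Submodule.mem_span_singleton.1 h0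
        have hs0 : s ≠ 0 := fun e => ha0 (by rw [← hs, e, zero_smul])
        exact Submodule.mem_span_singleton.2 ⟨s⁻¹, by rw [← hs, inv_smul_smul₀ hs0]⟩))
    have hn : ∀ {u v w : V}, w ∉ Submodule.span F ({u, v} : Set V) → v ∉ Submodule.span F ({u} : Set V) →
        v ∉ Submodule.span F ({u, w} : Set V) ∧ w ∉ Submodule.span F ({u} : Set V) := by
      intro u v w hw hv
      refine ⟨fun h0 => ?_, fun h0 => hw (Submodule.span_mono (by simp) h0)⟩
      obtain ⟨s, r, hsr⟩ := Submodule.mem_span_pair.1 h0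
      rcases eq_or_ne r 0 with rfl | hr
      · exact hv (Submodule.mem_span_singleton.2 ⟨s, by rw [← hsr, zero_smul, add_zero]⟩)
      · exact hw (Submodule.mem_span_pair.2 ⟨-(r⁻¹ * s), r⁻¹, by rw [← hsr]; match_scalars <;> field_simp; ring⟩)
    have e1 := key a a' a'' ha0 ha ha' ha'' (hn ha''a ha'a).1 (hn ha''a ha'a).2 (x - polar Q a x • z)
      (B.sub_mem hx (B.smul_mem _ hz')) (by rw [polar_sub_right, polar_smul_right', hz1]; ring)
    have hswap : a'' ∉ Submodule.span F ({a', a} : Set V) := by rwa [Set.pair_comm]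
    have haa' : a ∉ Submodule.span F ({a'} : Set V) := fun h0 => one_ne_zero (α := F) (by
      obtain ⟨s, rfl⟩ := Submodule.mem_span_singleton.1 h0
      rw [polar_smul_left', hzs a' (Submodule.mem_span_singleton_self a'), mul_zero] at hz1
      exact hz1.symm)
    have e2 := key a' a a'' (fun e => ha'a (e ▸ Submodule.zero_mem _)) ha' ha ha'' (hn hswap haa').1 (hn hswap haa').2 (polar Q a x • z)
      (B.smul_mem _ hz') (by rw [polar_smul_right', hzs a' (Submodule.mem_span_singleton_self a'), mul_zero])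
    have := B.add_mem e1 e2
    rw [← map_add, sub_add_cancel] at this
    exact hxτ this
  have haA : a ∈ A := haA₀.1
  have hQa : Q a = 0 := h.sA a haA
  have hp0 : polar Q a p = 0 := h.sA.polar_eq haA hp
  have hroot : sie a p hQa hp0 ∈ X := by
    have h1 := X.mul_mem (X.mul_mem hτ (hmix a b hQa hab haA hb)) (X.inv_mem hτ)
    rw [sie_conj] at h1
    have h2 : polar Q a q = 0 := by
      have := congrArg (polar Q (τ a)) hpq
      rw [O.polar_app (sie c d hQc hcd), hab, hfix a haA₀, polar_add_right, hp0, zero_add] at this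
      exact this.symm
    have h3 := X.mul_mem h1 (X.inv_mem (hmix a q hQa h2 haA hq))
    convert h3 using 1
    rw [eq_mul_inv_iff_mul_eq, sie_mul]
    exact sie_congr _ _ _ _ (hfix a haA₀).symm hpq.symm
  have hgen : ∀ e ∈ A, e ∉ Submodule.span F ({a, p} : Set V) → ∀ he : polar Q a e = 0, sie a e hQa he ∈ X := by
    intro e he hne hae
    have hp' : p ∉ Submodule.span F ({a, e} : Set V) := by
      intro h0
      obtain ⟨s, r, hsr⟩ := Submodule.mem_span_pair.1 h0
      rcases eq_or_ne r 0 with rfl | hr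
      · exact hpa (Submodule.mem_span_singleton.2 ⟨s, by rw [← hsr, zero_smul, add_zero]⟩)
      · exact hne (Submodule.mem_span_pair.2 ⟨-(r⁻¹ * s), r⁻¹, by rw [← hsr]; match_scalars <;> field_simp; ring⟩)
    obtain ⟨z, hz, hzs, hz1⟩ := h.exists_coord hQ (S := Submodule.span F {a, e})
      (Submodule.span_le.2 (by rintro y (rfl | rfl); exacts [haA, he])) hp hp'
    have hze : polar Q e z = 0 := hzs e (Submodule.subset_span (by simp))
    have hh := hmix e z (h.sA e he) hze he hz
    have hha : (sie e z (h.sA e he) hze : V ≃ₗ[F] V) a = a := by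
      rw [(h.sie_maps he hz (h.sA e he) hze).1 a haA, polar_comm, hzs a (Submodule.subset_span (by simp)), zero_smul,
        add_zero]
    have hhp : (sie e z (h.sA e he) hze : V ≃ₗ[F] V) p = p + e := by
      rw [(h.sie_maps he hz (h.sA e he) hze).1 p hp, polar_comm, hz1, one_smul]
    have h1 := X.mul_mem (X.mul_mem hh hroot) (X.inv_mem hh)
    rw [sie_conj] at h1
    have h2 := X.mul_mem (X.inv_mem hroot) h1
    convert h2 using 1
    rw [eq_inv_mul_iff_mul_eq, sie_mul]
    exact sie_congr _ _ _ _ hha.symm hhp.symm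
  refine ⟨a, haA, ha00, fun w _ hw => ?_⟩
  obtain ⟨wA, hwA, wB, hwB, rfl⟩ := h.dec w
  have hA0 : polar Q a wA = 0 := h.sA.polar_eq haA hwA
  have hB0 : polar Q a wB = 0 := by rw [polar_add_right, hA0, zero_add] at hw; exact hw
  have h1 : sie a wA hQa hA0 ∈ X := by
    by_cases hmem : wA ∈ Submodule.span F ({a, p} : Set V)
    swap
    · exact hgen wA hwA hmem hA0
    obtain ⟨e, he, hne⟩ : ∃ e ∈ A, e ∉ Submodule.span F ({a, p} : Set V) := by
      by_contra hc
      push Not at hc
      have h5 := Submodule.finrank_mono (show A ≤ Submodule.span F ({a, p} : Set V) from hc)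
      classical
      have h6 : finrank F (Submodule.span F ({a, p} : Set V)) ≤ 2 := by
        rw [show ({a, p} : Set V) = ↑({a, p} : Finset V) from by simp]
        exact (finrank_span_finset_le_card _).trans Finset.card_le_two
      omega
    have hne' : wA + e ∉ Submodule.span F ({a, p} : Set V) := fun h0 =>
      hne (by simpa using Submodule.sub_mem _ h0 hmem)
    have h7 := X.mul_mem (hgen _ (A.add_mem hwA he) hne' (h.sA.polar_eq haA (A.add_mem hwA he)))
      (X.inv_mem (hgen e he hne (h.sA.polar_eq haA he)))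
    convert h7 using 1
    rw [eq_mul_inv_iff_mul_eq, sie_mul]
  have := X.mul_mem h1 (hmix a wB hQa hB0 haA hwB)
  rw [sie_mul] at this
  exact this

end Polarised

end Abstract

end Cfsg.Agent.H98.OrthMax
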